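import Groth.Agent.H4DR.HT.Compare
import Groth.Agent.H4LC.LC

/-!
# Connecting maps on `H^i_T` and their naturality
-/

set_option autoImplicit false
set_option linter.style.haveILetI false
set_option linter.unusedSectionVars false

universe u

open CategoryTheory CategoryTheory.Limits Opposite CategoryTheory.Abelian
open Groth.Agent.H4DR.HT (diag ιM ιM_extEquiv ιM_tr exists_repM ιM_eq_zero tr carrier carrier_subset mk isColimitEval)

attribute [local instance] HasDerivedCategory.standard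

namespace Groth.Agent.H3CAlg.Boot

variable {A : Type u} [CommRing A] (T : Set (PrimeSpectrum A))
variable {L M N L' M' N' P : Type u} [AddCommGroup L] [Module A L] [AddCommGroup M] [Module A M] [AddCommGroup N] [Module A N]
  [AddCommGroup L'] [Module A L'] [AddCommGroup M'] [Module A M'] [AddCommGroup N'] [Module A N']
  [AddCommGroup P] [Module A P]

/-- Functoriality of `H^i_T`. -/
noncomputable abbrev Tmap (φ : M →ₗ[A] N) (i : ℕ) : Dual2.HT T i M →ₗ[A] Dual2.HT T i N :=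
  ((localCohomology.ofDiagram (Dual2.idealsInDiagram T) i).map (ModuleCat.ofHom φ)).hom

theorem Tmap_comp (φ : L →ₗ[A] M) (ψ : M →ₗ[A] N) (i : ℕ) (x : Dual2.HT T i L) :
    Tmap T (ψ ∘ₗ φ) i x = Tmap T ψ i (Tmap T φ i x) :=
  congr($((localCohomology.ofDiagram (Dual2.idealsInDiagram T) i).map_comp (ModuleCat.ofHom φ) (ModuleCat.ofHom ψ)).hom x)

theorem Tmap_id (i : ℕ) (x : Dual2.HT T i M) : Tmap T (LinearMap.id : M →ₗ[A] M) i x = x :=
  congr($((localCohomology.ofDiagram (Dual2.idealsInDiagram T) i).map_id (ModuleCat.of A M)).hom x)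

theorem Tmap_ιM (φ : M →ₗ[A] N) (i : ℕ) (J : Ideal A) (h : PrimeSpectrum.zeroLocus (J : Set A) ⊆ T)
    (x : Abelian.Ext (ModuleCat.of A (A ⧸ J)) (ModuleCat.of A M) i) :
    Tmap T φ i (ιM T M i J h x) = ιM T N i J h (x.comp (Abelian.Ext.mk₀ (ModuleCat.ofHom φ)) (add_zero i)) := by
  obtain ⟨y, rfl⟩ := (H4LC.extEquiv (ModuleCat.of A (A ⧸ J)) (ModuleCat.of A M) i).surjective x
  rw [← H4LC.extEquiv_naturality_right, ιM_extEquiv, ιM_extEquiv]
  exact (congrArg (fun a => ModuleCat.Hom.hom a y)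
    ((colimit.ι (diag T i) (Opposite.op (mk T J h))).naturality (ModuleCat.ofHom φ))).symm

theorem Tmap_zero (i : ℕ) (x : Dual2.HT T i M) : Tmap T (0 : M →ₗ[A] N) i x = 0 := by
  obtain ⟨J, h, e, rfl⟩ := exists_repM T M i x
  rw [Tmap_ιM, ModuleCat.ofHom_zero, Abelian.Ext.mk₀_zero, Abelian.Ext.comp_zero, map_zero]

theorem Tmap_add (φ ψ : M →ₗ[A] N) (i : ℕ) (x : Dual2.HT T i M) :
    Tmap T (φ + ψ) i x = Tmap T φ i x + Tmap T ψ i x := by
  obtain ⟨J, h, e, rfl⟩ := exists_repM T M i x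
  rw [Tmap_ιM, Tmap_ιM, Tmap_ιM, ModuleCat.ofHom_add, Abelian.Ext.mk₀_add, Abelian.Ext.comp_add, map_add]

theorem Tmap_sum {ι : Type*} (s : Finset ι) (φ : ι → (M →ₗ[A] N)) (i : ℕ) (x : Dual2.HT T i M) :
    Tmap T (∑ j ∈ s, φ j) i x = ∑ j ∈ s, Tmap T (φ j) i x := by
  classical
  induction s using Finset.induction_on with
  | empty => rw [Finset.sum_empty, Finset.sum_empty, Tmap_zero]
  | insert a s ha ih => rw [Finset.sum_insert ha, Finset.sum_insert ha, Tmap_add, ih]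

theorem Tmap_smul (c : A) (φ : M →ₗ[A] N) (i : ℕ) (x : Dual2.HT T i M) :
    Tmap T (c • φ) i x = c • Tmap T φ i x := by
  obtain ⟨J, h, e, rfl⟩ := exists_repM T M i x
  rw [Tmap_ιM, Tmap_ιM, ← map_smul, ← Abelian.Ext.comp_smul, ← Abelian.Ext.mk₀_smul]
  rfl

section SES

variable {f : L →ₗ[A] M} {g : M →ₗ[A] N} (hf : Function.Injective f) (hg : Function.Surjective g)
  (hfg : Function.Exact f g)

/-- The short complex. -/
noncomputable abbrev sc (hfg : Function.Exact f g) : ShortComplex (ModuleCat.{u} A) :=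
  ShortComplex.mk (ModuleCat.ofHom f) (ModuleCat.ofHom g)
    (ModuleCat.hom_ext (LinearMap.ext fun m => hfg.apply_apply_eq_zero m))

include hf hg in
theorem sc_shortExact : (sc hfg).ShortExact :=
  ShortComplex.ShortExact.mk' ((ShortComplex.moduleCat_exact_iff _).2 fun y hy => (hfg y).1 hy)
    ((ModuleCat.mono_iff_injective _).2 hf) ((ModuleCat.epi_iff_surjective _).2 hg)

/-- The extension class. -/
noncomputable abbrev cls' : Abelian.Ext (ModuleCat.of A N) (ModuleCat.of A L) 1 :=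
  (sc_shortExact hf hg hfg).extClass

/-- The cocone of the connecting map. -/
noncomputable def δCocone (i : ℕ) :
    Cocone (diag T i ⋙ (evaluation (ModuleCat.{u} A) (ModuleCat.{u} A)).obj (ModuleCat.of A N)) where
  pt := ModuleCat.of A (Dual2.HT T (i + 1) L)
  ι :=
    { app := fun j => ModuleCat.ofHom
        (ιM T L (i + 1) (carrier T j.unop) (carrier_subset T j.unop) ∘ₗ
          ((Abelian.Ext.postcompOfLinear (R := A) (cls' hf hg hfg)
            (ModuleCat.of A (A ⧸ carrier T j.unop)) (rfl : i + 1 = i + 1))) ∘ₗ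
          (H4LC.extEquiv (ModuleCat.of A (A ⧸ carrier T j.unop)) (ModuleCat.of A N) i).toLinearMap)
      naturality := fun j k a => ModuleCat.hom_ext (LinearMap.ext fun y => by
        have hle : carrier T k.unop ≤ carrier T j.unop := leOfHom ((Dual2.idealsInDiagram T).map a.unop)
        show ιM T L (i + 1) _ _ ((H4LC.extEquiv _ _ i (((diag T i).map a).app (ModuleCat.of A N) |>.hom y)).comp
            (cls' hf hg hfg) rfl) =
          ιM T L (i + 1) _ _ ((H4LC.extEquiv _ _ i y).comp (cls' hf hg hfg) rfl)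
        rw [show H4LC.extEquiv _ _ i (((diag T i).map a).app (ModuleCat.of A N) |>.hom y) =
          (Abelian.Ext.mk₀ (tr hle)).comp (H4LC.extEquiv _ _ i y) (zero_add i) from
            H4LC.extEquiv_naturality_left (tr hle) _ i y]
        refine (congrArg (ιM T L (i + 1) (carrier T k.unop) (carrier_subset T k.unop))
          (Abelian.Ext.comp_assoc _ _ _ (zero_add i) rfl (by omega))).trans ?_
        exact ιM_tr T L (i + 1) (carrier_subset T j.unop) (carrier_subset T k.unop) hle _) }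

/-- The connecting map. -/
noncomputable def δT (i : ℕ) : Dual2.HT T i N →ₗ[A] Dual2.HT T (i + 1) L :=
  ((isColimitEval T N i).desc (δCocone T hf hg hfg i)).hom

theorem δT_ιM (i : ℕ) (J : Ideal A) (h : PrimeSpectrum.zeroLocus (J : Set A) ⊆ T)
    (x : Abelian.Ext (ModuleCat.of A (A ⧸ J)) (ModuleCat.of A N) i) :
    δT T hf hg hfg i (ιM T N i J h x) = ιM T L (i + 1) J h (x.comp (cls' hf hg hfg) rfl) := by
  obtain ⟨y, rfl⟩ := (H4LC.extEquiv (ModuleCat.of A (A ⧸ J)) (ModuleCat.of A N) i).surjective x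
  rw [ιM_extEquiv]
  exact congr($((isColimitEval T N i).fac (δCocone T hf hg hfg i) (Opposite.op (mk T J h))).hom y)

include hf hg hfg in
theorem exactT₂ (i : ℕ) : Function.Exact (Tmap T f i) (Tmap T g i) := fun z => by
  constructor
  · intro hz
    obtain ⟨J, h, x, rfl⟩ := exists_repM T M i z
    rw [Tmap_ιM] at hz
    obtain ⟨J', hle, hJ', h0⟩ := ιM_eq_zero T N i hz
    rw [← Abelian.Ext.comp_assoc_of_third_deg_zero] at h0
    obtain ⟨x₁, hx₁⟩ := Abelian.Ext.covariant_sequence_exact₂ _ (sc_shortExact hf hg hfg) _ h0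
    refine ⟨ιM T L i J' hJ' x₁, ?_⟩
    rw [Tmap_ιM, hx₁]
    exact ιM_tr T M i h hJ' hle x
  · rintro ⟨w, rfl⟩
    rw [← Tmap_comp, hfg.linearMap_comp_eq_zero, Tmap_zero]

theorem exactT₃ (i : ℕ) : Function.Exact (Tmap T g i) (δT T hf hg hfg i) := fun z => by
  constructor
  · intro hz
    obtain ⟨J, h, x, rfl⟩ := exists_repM T N i z
    rw [δT_ιM] at hz
    obtain ⟨J', hle, hJ', h0⟩ := ιM_eq_zero T L (i + 1) hz
    rw [← Abelian.Ext.comp_assoc _ _ _ (zero_add i) rfl (by omega)] at h0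
    obtain ⟨x₂, hx₂⟩ := Abelian.Ext.covariant_sequence_exact₃ _ (sc_shortExact hf hg hfg) _ rfl h0
    refine ⟨ιM T M i J' hJ' x₂, ?_⟩
    rw [Tmap_ιM, hx₂]
    exact ιM_tr T N i h hJ' hle x
  · rintro ⟨w, rfl⟩
    obtain ⟨J, h, x, rfl⟩ := exists_repM T M i w
    rw [Tmap_ιM, δT_ιM, Abelian.Ext.comp_assoc _ _ _ (add_zero i) (zero_add 1) (by omega),
      (sc_shortExact hf hg hfg).comp_extClass, Abelian.Ext.comp_zero, map_zero]

theorem exactT₁ (i : ℕ) : Function.Exact (δT T hf hg hfg i) (Tmap T f (i + 1)) := fun z => by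
  constructor
  · intro hz
    obtain ⟨J, h, x, rfl⟩ := exists_repM T L (i + 1) z
    rw [Tmap_ιM] at hz
    obtain ⟨J', hle, hJ', h0⟩ := ιM_eq_zero T M (i + 1) hz
    rw [← Abelian.Ext.comp_assoc_of_third_deg_zero] at h0
    obtain ⟨x₃, hx₃⟩ := Abelian.Ext.covariant_sequence_exact₁ _ (sc_shortExact hf hg hfg) _ h0 rfl
    refine ⟨ιM T N i J' hJ' x₃, ?_⟩
    rw [δT_ιM, hx₃]
    exact ιM_tr T L (i + 1) h hJ' hle x
  · rintro ⟨w, rfl⟩
    obtain ⟨J, h, x, rfl⟩ := exists_repM T N i w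
    rw [δT_ιM, Tmap_ιM, Abelian.Ext.comp_assoc_of_third_deg_zero, (sc_shortExact hf hg hfg).extClass_comp,
      Abelian.Ext.comp_zero, map_zero]

include hf hg hfg in
theorem Tmap_zero_injective : Function.Injective (Tmap T f 0) := by
  refine (injective_iff_map_eq_zero _).2 fun z hz => ?_
  obtain ⟨J, h, x, rfl⟩ := exists_repM T L 0 z
  rw [Tmap_ιM] at hz
  obtain ⟨J', hle, hJ', h0⟩ := ιM_eq_zero T M 0 hz
  rw [← Abelian.Ext.comp_assoc_of_third_deg_zero] at h0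
  rw [← ιM_tr T L 0 h hJ' hle x]
  generalize (Abelian.Ext.mk₀ (tr hle)).comp x (zero_add 0) = y at h0 ⊢
  obtain ⟨a, rfl⟩ := (Abelian.Ext.mk₀_bijective _ _).2 y
  rw [Abelian.Ext.mk₀_comp_mk₀, ← Abelian.Ext.mk₀_zero] at h0
  haveI : Mono (ModuleCat.ofHom f) := (ModuleCat.mono_iff_injective _).2 hf
  rw [show a = 0 from (cancel_mono (ModuleCat.ofHom f)).1 (((Abelian.Ext.mk₀_bijective _ _).1 h0).trans zero_comp.symm),
    Abelian.Ext.mk₀_zero, map_zero]

variable {f' : L' →ₗ[A] M'} {g' : M' →ₗ[A] N'} (hf' : Function.Injective f') (hg' : Function.Surjective g')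
  (hfg' : Function.Exact f' g') {a : L →ₗ[A] L'} {b : M →ₗ[A] M'} {c : N →ₗ[A] N'}

theorem cls'_natural (h₁ : f' ∘ₗ a = b ∘ₗ f) (h₂ : g' ∘ₗ b = c ∘ₗ g) :
    (cls' hf hg hfg).comp (Abelian.Ext.mk₀ (ModuleCat.ofHom a)) (add_zero 1) =
      (Abelian.Ext.mk₀ (ModuleCat.ofHom c)).comp (cls' hf' hg' hfg') (zero_add 1) :=
  ShortComplex.ShortExact.extClass_naturality (sc_shortExact hf hg hfg) (sc_shortExact hf' hg' hfg')
    { τ₁ := ModuleCat.ofHom a
      τ₂ := ModuleCat.ofHom b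
      τ₃ := ModuleCat.ofHom c
      comm₁₂ := ModuleCat.hom_ext h₁
      comm₂₃ := ModuleCat.hom_ext h₂ }

theorem δT_natural (h₁ : f' ∘ₗ a = b ∘ₗ f) (h₂ : g' ∘ₗ b = c ∘ₗ g) (i : ℕ) (x : Dual2.HT T i N) :
    δT T hf' hg' hfg' i (Tmap T c i x) = Tmap T a (i + 1) (δT T hf hg hfg i x) := by
  obtain ⟨J, h, e, rfl⟩ := exists_repM T N i x
  rw [Tmap_ιM, δT_ιM, δT_ιM, Tmap_ιM, Abelian.Ext.comp_assoc _ _ _ (add_zero i) (zero_add 1) (by omega),
    ← cls'_natural hf hg hfg hf' hg' hfg' h₁ h₂]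
  exact congrArg _ (Abelian.Ext.comp_assoc _ _ _ rfl (add_zero 1) (by omega)).symm

section LC

variable (I : Ideal A)

theorem Hmap_ι (φ : M →ₗ[A] N) (i n : ℕ) (x : Abelian.Ext ((H4LC.quotSys I).obj (op n)) (ModuleCat.of A M) i) :
    H4LC.Hmap I φ i (H4LC.ι (H4LC.quotSys I) i (ModuleCat.of A M) n x) =
      H4LC.ι (H4LC.quotSys I) i (ModuleCat.of A N) n (x.comp (Abelian.Ext.mk₀ (ModuleCat.ofHom φ)) (add_zero i)) :=
  H4LC.map_ι (H4LC.quotSys I) i (ModuleCat.ofHom φ) n x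

/-- The connecting map on `H^i_I`. -/
noncomputable def δL (i : ℕ) : LocCoh.H I i N →ₗ[A] LocCoh.H I (i + 1) L :=
  H4LC.postcomp (H4LC.quotSys I) (cls' hf hg hfg) (rfl : i + 1 = i + 1)

theorem δL_ι (i n : ℕ) (x : Abelian.Ext ((H4LC.quotSys I).obj (op n)) (ModuleCat.of A N) i) :
    δL hf hg hfg I i (H4LC.ι (H4LC.quotSys I) i (ModuleCat.of A N) n x) =
      H4LC.ι (H4LC.quotSys I) (i + 1) (ModuleCat.of A L) n (x.comp (cls' hf hg hfg) rfl) :=
  H4LC.postcomp_ι (H4LC.quotSys I) (cls' hf hg hfg) rfl n x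

theorem exactL₁ (i : ℕ) : Function.Exact (δL hf hg hfg I i) (H4LC.Hmap I f (i + 1)) :=
  H4LC.exact₁ (H4LC.quotSys I) (sc_shortExact hf hg hfg) i (i + 1) rfl

theorem exactL₃ (i : ℕ) : Function.Exact (H4LC.Hmap I g i) (δL hf hg hfg I i) :=
  H4LC.exact₃ (H4LC.quotSys I) (sc_shortExact hf hg hfg) i (i + 1) rfl

theorem δL_natural (h₁ : f' ∘ₗ a = b ∘ₗ f) (h₂ : g' ∘ₗ b = c ∘ₗ g) (i : ℕ) (x : LocCoh.H I i N) :
    δL hf' hg' hfg' I i (H4LC.Hmap I c i x) = H4LC.Hmap I a (i + 1) (δL hf hg hfg I i x) := by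
  obtain ⟨n, e, rfl⟩ := H4LC.exists_rep (H4LC.quotSys I) i (ModuleCat.of A N) x
  rw [Hmap_ι, δL_ι, δL_ι, Hmap_ι, Abelian.Ext.comp_assoc _ _ _ (add_zero i) (zero_add 1) (by omega),
    ← cls'_natural hf hg hfg hf' hg' hfg' h₁ h₂]
  exact congrArg _ (Abelian.Ext.comp_assoc _ _ _ rfl (add_zero 1) (by omega)).symm

end LC

end SES

end Groth.Agent.H3CAlg.Boot
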