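import Groth.Agent.H3CAlg.Boot.DFun
import Groth.Agent.H3CAlg.Boot.LES
import Groth.Agent.H3CAlg.PunctCech
import Groth.Agent.H4LC.FlatBaseChange
import Groth.Agent.H4LC.CompletionTransfer

/-!
# Natural comparisons of local cohomology: Čech complexes, and completion
-/

set_option autoImplicit false
set_option linter.style.haveILetI false
set_option linter.unusedSectionVars false

universe u

open CategoryTheory CategoryTheory.Limits TensorProduct
open Groth.Agent.H3CAlg.PunctCech (Hc hc δc τ)

attribute [local instance] HasDerivedCategory.standard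

namespace Groth.Agent.H3CAlg.Boot

variable {A : Type u} [CommRing A] [IsNoetherianRing A]

/-- Local cohomology as a δ-functor. -/
noncomputable def lcFun (J : Ideal A) : DFun A where
  obj i M := LocCoh.H J i M
  grp i M := inferInstance
  map φ i := (H4LC.Hmap J φ i).toAddMonoidHom
  δ f g hf hg hfg i := (δL hf hg hfg J i).toAddMonoidHom
  exact_g_δ f g hf hg hfg i x := exactL₃ hf hg hfg J i x
  exact_δ_f f g hf hg hfg i z hz := (exactL₁ hf hg hfg J i z).1 hz
  δ_natural f g hf hg hfg f' g' hf' hg' hfg' a b c h₁ h₂ i x := δL_natural hf hg hfg hf' hg' hfg' J h₁ h₂ i x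
  efface E hE i := H4LC.subsingleton_H_of_injective J E i.succ_pos

/-- Čech cohomology as a δ-functor. -/
noncomputable def cechFun (fs : List A) : DFun A where
  obj i M := Hc fs (i : ℤ) M
  grp i M := inferInstance
  map φ i := (hc fs φ (i : ℤ)).toAddMonoidHom
  δ f g hf hg hfg i := (δc fs hf hg hfg (i : ℤ) ((i + 1 : ℕ) : ℤ) (by norm_num)).toAddMonoidHom
  exact_g_δ f g hf hg hfg i x := PunctCech.exact_g_δc fs hf hg hfg _ _ _ x
  exact_δ_f f g hf hg hfg i z hz := (PunctCech.exact_δc_f fs hf hg hfg _ _ _ z).1 hz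
  δ_natural f g hf hg hfg f' g' hf' hg' hfg' a b c h₁ h₂ i x :=
    PunctCech.δc_natural fs hf hg hfg hf' hg' hfg' h₁ h₂ _ _ _ x
  efface E hE i := PunctCech.subsingleton_Hc_injective fs E _ (by push_cast; omega)

theorem agree_lc_cech_zero (fs : List A) : Agree (lcFun (Ideal.ofList fs)) (cechFun fs) 0 := by
  have hex : ∀ M : ModuleCat.{u} A, ∃ e : LocCoh.H (Ideal.ofList fs) 0 M ≃+ Hc fs ((0 : ℕ) : ℤ) M,
      ∀ x, τ fs M (e x) = (H4LC.zeroEquiv (Ideal.ofList fs) M x : M) := by
    intro M
    have hbij : ∀ x : LocCoh.H (Ideal.ofList fs) 0 M, ∃ y, τ fs M y = (H4LC.zeroEquiv (Ideal.ofList fs) M x : M) :=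
      fun x => (PunctCech.mem_range_τ fs _).2 (H4LC.zeroEquiv (Ideal.ofList fs) M x).2
    choose g hg using hbij
    refine ⟨AddEquiv.ofBijective (AddMonoidHom.mk' g fun a b => PunctCech.τ_injective fs M (by
      rw [hg, map_add, map_add, hg, hg]; rfl)) ⟨fun a b hab => (H4LC.zeroEquiv (Ideal.ofList fs) M).injective
        (Subtype.ext (by rw [← hg, ← hg]; exact congrArg (τ fs M) hab)), fun y => ?_⟩, hg⟩
    refine ⟨(H4LC.zeroEquiv (Ideal.ofList fs) M).symm ⟨τ fs M y, (PunctCech.mem_range_τ fs _).1 ⟨y, rfl⟩⟩,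
      PunctCech.τ_injective fs M ?_⟩
    show τ fs M (g _) = _
    rw [hg, LinearEquiv.apply_symm_apply]
  choose e he using hex
  refine ⟨e, fun {M N} φ x => PunctCech.τ_injective fs N ?_⟩
  refine (he N _).trans ?_
  refine (H4LC.zeroEquiv_naturality (Ideal.ofList fs) φ x).trans ?_
  rw [← he M x]
  exact (PunctCech.τ_natural fs φ (e M x)).symm

/-- Čech cohomology is local cohomology, naturally. -/
theorem agree_lc_cech (fs : List A) (i : ℕ) : Agree (lcFun (Ideal.ofList fs)) (cechFun fs) i :=
  agree _ _ (agree_lc_cech_zero fs) i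

variable (S : Type u) [CommRing S] [IsNoetherianRing S] [Algebra A S] [Module.Flat A S]

theorem baseChange_exact {L M N : Type u} [AddCommGroup L] [Module A L] [AddCommGroup M] [Module A M] [AddCommGroup N]
    [Module A N] {f : L →ₗ[A] M} {g : M →ₗ[A] N} (hfg : Function.Exact f g) :
    Function.Exact (f.baseChange S) (g.baseChange S) :=
  Module.Flat.lTensor_exact S hfg

theorem baseChange_injective {L M : Type u} [AddCommGroup L] [Module A L] [AddCommGroup M] [Module A M]
    {f : L →ₗ[A] M} (hf : Function.Injective f) : Function.Injective (f.baseChange S) :=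
  Module.Flat.lTensor_preserves_injective_linearMap f hf

theorem baseChange_surjective {M N : Type u} [AddCommGroup M] [Module A M] [AddCommGroup N] [Module A N]
    {g : M →ₗ[A] N} (hg : Function.Surjective g) : Function.Surjective (g.baseChange S) :=
  LinearMap.lTensor_surjective S hg

/-- Local cohomology of the base change, as a δ-functor. -/
noncomputable def bcFun (J : Ideal A) : DFun A where
  obj i M := LocCoh.H (J.map (algebraMap A S)) i (S ⊗[A] M)
  grp i M := inferInstance
  map φ i := (H4LC.Hmap (J.map (algebraMap A S)) (φ.baseChange S) i).toAddMonoidHom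
  δ f g hf hg hfg i := (δL (baseChange_injective S hf) (baseChange_surjective S hg) (baseChange_exact S hfg)
    (J.map (algebraMap A S)) i).toAddMonoidHom
  exact_g_δ f g hf hg hfg i x := exactL₃ _ _ _ _ i x
  exact_δ_f f g hf hg hfg i z hz := (exactL₁ (baseChange_injective S hf) (baseChange_surjective S hg)
    (baseChange_exact S hfg) _ i z).1 hz
  δ_natural f g hf hg hfg f' g' hf' hg' hfg' a b c h₁ h₂ i x :=
    δL_natural _ _ _ _ _ _ _ (by rw [← LinearMap.baseChange_comp, h₁, LinearMap.baseChange_comp])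
      (by rw [← LinearMap.baseChange_comp, h₂, LinearMap.baseChange_comp]) i x
  efface E hE i := by
    haveI := hE
    exact H4LC.subsingleton_H_tensor_injective S J E (i + 1) i.succ_pos

theorem agree_lc_bc_zero [IsLocalRing A] [IsLocalRing S] (h : H4LC.IsComplLike A S) :
    Agree (lcFun (IsLocalRing.maximalIdeal A)) (bcFun S (IsLocalRing.maximalIdeal A)) 0 := by
  let m := IsLocalRing.maximalIdeal A
  have hΓ : ∀ M : ModuleCat.{u} A, LocCoh.IsPowerTorsion m (DRing.torsionSub m M) := fun M x => by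
    obtain ⟨n, hn⟩ := x.2
    exact ⟨n, fun a ha => Subtype.ext (hn a ha)⟩
  refine ⟨fun M => ((H4LC.zeroEquiv m M).toAddEquiv.trans ((h.torsionEquiv (hΓ M)).toAddEquiv.trans
    (H4LC.gammaBaseChange S m M).toAddEquiv)).trans (H4LC.zeroEquiv (m.map (algebraMap A S)) (S ⊗[A] M)).symm.toAddEquiv,
    fun {M N} φ x => ?_⟩
  refine (H4LC.zeroEquiv (m.map (algebraMap A S)) (S ⊗[A] N)).injective ?_
  refine ((H4LC.zeroEquiv (m.map (algebraMap A S)) (S ⊗[A] N)).apply_symm_apply _).trans (Subtype.ext ?_)
  refine Eq.trans ?_ (H4LC.zeroEquiv_naturality (m.map (algebraMap A S)) (φ.baseChange S) _).symm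
  show (DRing.torsionSub m N).subtype.baseChange S (1 ⊗ₜ H4LC.zeroEquiv m N (H4LC.Hmap m φ 0 x)) =
    φ.baseChange S ((H4LC.zeroEquiv (m.map (algebraMap A S)) (S ⊗[A] M)
      ((H4LC.zeroEquiv (m.map (algebraMap A S)) (S ⊗[A] M)).symm _)).1)
  rw [LinearEquiv.apply_symm_apply, LinearMap.baseChange_tmul, Submodule.subtype_apply,
    H4LC.zeroEquiv_naturality]
  show _ = φ.baseChange S ((DRing.torsionSub m M).subtype.baseChange S (1 ⊗ₜ H4LC.zeroEquiv m M x))
  rw [LinearMap.baseChange_tmul, LinearMap.baseChange_tmul, Submodule.subtype_apply]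

/-- Local cohomology at the closed point does not change under completion, naturally. -/
theorem agree_lc_bc [IsLocalRing A] [IsLocalRing S] (h : H4LC.IsComplLike A S) (i : ℕ) :
    Agree (lcFun (IsLocalRing.maximalIdeal A)) (bcFun S (IsLocalRing.maximalIdeal A)) i :=
  agree _ _ (agree_lc_bc_zero S h) i

end Groth.Agent.H3CAlg.Boot
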