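import Groth.Agent.H4DR.Ext.Basic
import Mathlib.Algebra.Category.ModuleCat.EnoughInjectives

/-!
# Effaceable δ-functors agreeing in degree zero agree in every degree, naturally
-/

set_option autoImplicit false
set_option linter.style.haveILetI false
set_option linter.unusedSectionVars false

universe u

open CategoryTheory CategoryTheory.Limits

namespace Groth.Agent.H3CAlg.Boot

variable (A : Type u) [CommRing A]

/-- An effaceable δ-functor, elementwise. -/
structure DFun where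
  /-- The values. -/
  obj : ℕ → ModuleCat.{u} A → Type u
  /-- They are groups. -/
  grp : ∀ i M, AddCommGroup (obj i M)
  /-- The maps. -/
  map : ∀ {M N : ModuleCat.{u} A} (φ : M →ₗ[A] N) (i : ℕ), letI := grp i M; letI := grp i N; obj i M →+ obj i N
  /-- The connecting maps. -/
  δ : ∀ {L M N : ModuleCat.{u} A} (f : L →ₗ[A] M) (g : M →ₗ[A] N), Function.Injective f → Function.Surjective g →
    Function.Exact f g → ∀ i : ℕ, letI := grp i N; letI := grp (i + 1) L; obj i N →+ obj (i + 1) L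
  exact_g_δ : ∀ {L M N : ModuleCat.{u} A} (f : L →ₗ[A] M) (g : M →ₗ[A] N) (hf : Function.Injective f)
    (hg : Function.Surjective g) (hfg : Function.Exact f g) (i : ℕ) (x : obj i N),
    letI := grp i N; letI := grp (i + 1) L; letI := grp i M;
    δ f g hf hg hfg i x = 0 ↔ ∃ y, map g i y = x
  exact_δ_f : ∀ {L M N : ModuleCat.{u} A} (f : L →ₗ[A] M) (g : M →ₗ[A] N) (hf : Function.Injective f)
    (hg : Function.Surjective g) (hfg : Function.Exact f g) (i : ℕ) (z : obj (i + 1) L),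
    letI := grp i N; letI := grp (i + 1) L; letI := grp (i + 1) M;
    map f (i + 1) z = 0 → ∃ x, δ f g hf hg hfg i x = z
  δ_natural : ∀ {L M N L' M' N' : ModuleCat.{u} A} (f : L →ₗ[A] M) (g : M →ₗ[A] N) (hf : Function.Injective f)
    (hg : Function.Surjective g) (hfg : Function.Exact f g) (f' : L' →ₗ[A] M') (g' : M' →ₗ[A] N')
    (hf' : Function.Injective f') (hg' : Function.Surjective g') (hfg' : Function.Exact f' g') (a : L →ₗ[A] L')
    (b : M →ₗ[A] M') (c : N →ₗ[A] N'), f' ∘ₗ a = b ∘ₗ f → g' ∘ₗ b = c ∘ₗ g → ∀ (i : ℕ) (x : obj i N),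
    letI := grp i N; letI := grp (i + 1) L; letI := grp i N'; letI := grp (i + 1) L';
    δ f' g' hf' hg' hfg' i (map c i x) = map a (i + 1) (δ f g hf hg hfg i x)
  efface : ∀ (E : ModuleCat.{u} A), Module.Injective A E → ∀ i : ℕ, Subsingleton (obj (i + 1) E)

attribute [instance] DFun.grp

variable {A} (F G : DFun A)

/-- A natural bijection in one degree. -/
def Agree (i : ℕ) : Prop :=
  ∃ e : ∀ M : ModuleCat.{u} A, F.obj i M ≃+ G.obj i M,
    ∀ {M N : ModuleCat.{u} A} (φ : M →ₗ[A] N) (x : F.obj i M), e N (F.map φ i x) = G.map φ i (e M x)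

theorem exists_equiv_ker {P X Y : Type u} [AddCommGroup P] [AddCommGroup X] [AddCommGroup Y] (Φ : P →+ X) (Ψ : P →+ Y)
    (hΦ : Function.Surjective Φ) (hΨ : Function.Surjective Ψ) (h : ∀ p, Φ p = 0 ↔ Ψ p = 0) :
    ∃ e : X ≃+ Y, ∀ p, e (Φ p) = Ψ p := by
  let e : X ≃+ Y := (QuotientAddGroup.quotientKerEquivOfSurjective Φ hΦ).symm.trans
    ((QuotientAddGroup.quotientAddEquivOfEq (SetLike.ext h : Φ.ker = Ψ.ker)).trans
      (QuotientAddGroup.quotientKerEquivOfSurjective Ψ hΨ))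
  refine ⟨e, fun p => ?_⟩
  simp only [e, AddEquiv.trans_apply]
  rw [show (QuotientAddGroup.quotientKerEquivOfSurjective Φ hΦ).symm (Φ p) = (p : P ⧸ Φ.ker) from
    (QuotientAddGroup.quotientKerEquivOfSurjective Φ hΦ).symm_apply_eq.2 rfl]
  rfl

theorem agree_succ {i : ℕ} (h : Agree F G i) : Agree F G (i + 1) := by
  obtain ⟨e₀, he₀⟩ := h
  let E : ModuleCat.{u} A → ModuleCat.{u} A := fun M => Injective.under M
  have hE : ∀ M, Module.Injective A (E M) := fun M =>
    (Module.injective_iff_injective_object A _).2 (Injective.injective_under M)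
  let ι : ∀ M : ModuleCat.{u} A, M →ₗ[A] E M := fun M => (Injective.ι M).hom
  let Q : ModuleCat.{u} A → ModuleCat.{u} A := fun M => ModuleCat.of A (E M ⧸ LinearMap.range (ι M))
  let π : ∀ M : ModuleCat.{u} A, E M →ₗ[A] Q M := fun M => (LinearMap.range (ι M)).mkQ
  have hι : ∀ M, Function.Injective (ι M) := fun M => (ModuleCat.mono_iff_injective _).1 (Injective.ι_mono M)
  have hπ : ∀ M, Function.Surjective (π M) := fun M => Submodule.mkQ_surjective _
  have hex : ∀ M, Function.Exact (ι M) (π M) := fun M => LinearMap.exact_map_mkQ_range _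
  have key : ∀ M, ∃ e : F.obj (i + 1) M ≃+ G.obj (i + 1) M,
      ∀ q, e (F.δ _ _ (hι M) (hπ M) (hex M) i q) = G.δ _ _ (hι M) (hπ M) (hex M) i (e₀ (Q M) q) := by
    intro M
    refine exists_equiv_ker (F.δ _ _ (hι M) (hπ M) (hex M) i)
      ((G.δ _ _ (hι M) (hπ M) (hex M) i).comp (e₀ (Q M)).toAddMonoidHom)
      (fun z => F.exact_δ_f _ _ _ _ _ i z (@Subsingleton.elim _ (F.efface (E M) (hE M) i) _ _))
      (fun z => by
        obtain ⟨x, hx⟩ := G.exact_δ_f _ _ (hι M) (hπ M) (hex M) i z (@Subsingleton.elim _ (G.efface (E M) (hE M) i) _ _)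
        exact ⟨(e₀ (Q M)).symm x, (congrArg (G.δ _ _ (hι M) (hπ M) (hex M) i) ((e₀ (Q M)).apply_symm_apply x)).trans hx⟩)
      fun q => ?_
    refine (F.exact_g_δ _ _ _ _ _ i q).trans (Iff.trans ?_ (G.exact_g_δ _ _ _ _ _ i _).symm)
    exact ⟨fun ⟨y, hy⟩ => ⟨e₀ _ y, (he₀ (π M) y).symm.trans (congrArg (e₀ (Q M)) hy)⟩,
      fun ⟨y, hy⟩ => ⟨(e₀ _).symm y, (e₀ (Q M)).injective (by rw [he₀, AddEquiv.apply_symm_apply]; exact hy)⟩⟩
  choose e he using key
  refine ⟨e, fun {M N} φ x => ?_⟩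
  obtain ⟨q, rfl⟩ := F.exact_δ_f _ _ (hι M) (hπ M) (hex M) i x (@Subsingleton.elim _ (F.efface (E M) (hE M) i) _ _)
  obtain ⟨b, hb⟩ := (Module.Baer.of_injective (hE N)).extension_property (ι M) (hι M) (ι N ∘ₗ φ)
  have hker : LinearMap.range (ι M) ≤ LinearMap.ker (π N ∘ₗ b) := by
    rintro _ ⟨m, rfl⟩
    show π N ((b ∘ₗ ι M) m) = 0
    rw [hb]
    exact (hex N).apply_apply_eq_zero _
  let c : Q M →ₗ[A] Q N := (LinearMap.range (ι M)).liftQ (π N ∘ₗ b) hker
  have h₂ : π N ∘ₗ b = c ∘ₗ π M := LinearMap.ext fun x => rfl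
  rw [← F.δ_natural _ _ (hι M) (hπ M) (hex M) _ _ (hι N) (hπ N) (hex N) φ b c hb.symm h₂, he, he,
    ← G.δ_natural _ _ (hι M) (hπ M) (hex M) _ _ (hι N) (hπ N) (hex N) φ b c hb.symm h₂, he₀]

theorem agree (h : Agree F G 0) : ∀ i, Agree F G i
  | 0 => h
  | i + 1 => agree_succ F G (agree h i)

end Groth.Agent.H3CAlg.Boot
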