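import Groth.Agent.H3CAlg.Boot.Main

/-!
# `H^i_T(M)` and the limit of `H^i_T(M/I^n M)`
-/

set_option autoImplicit false
set_option linter.style.haveILetI false
set_option linter.unusedSectionVars false

universe u

open CategoryTheory

attribute [local instance] HasDerivedCategory.standard

namespace Groth.Agent.H3CAlg.Boot

variable {A : Type u} [CommRing A] [IsNoetherianRing A] {I : Ideal A} {T : Set (PrimeSpectrum A)} {s d : ℕ}
  {M : Type u} [AddCommGroup M] [Module A M] [Module.Finite A M]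
variable (hdc : ∃ ω : Dual.D A, Dual.IsDualizing A ω) (hcd : LocCoh.CdLE A I d) (hT : StableUnderSpecialization T)
  (H : Hyp M I T s d)

include hdc hcd hT H in
/-- The classes from the quotients lift to `M` at a lower level. -/
theorem exists_lift (i : ℕ) (hi : i ≤ s) (n : ℕ) :
    ∃ l : ℕ, ∀ (k : ℕ) (h : n ≤ k), l ≤ k → ∀ z,
      ∃ x, Tmap T (I ^ n • ⊤ : Submodule A M).mkQ i x = Tmap T (qt I M h) i z := by
  obtain ⟨l, hl, hker⟩ : ∃ (l : ℕ) (h : n ≤ l), ∀ x,
      Tmap T (I ^ l • ⊤ : Submodule A M).subtype (i + 1) x = 0 → Tmap T (tY I M h) (i + 1) x = 0 := by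
    rcases hi.lt_or_eq with hlt | rfl
    · obtain ⟨l, hl, h0⟩ := proZero hdc hcd hT H (i + 1) hlt n
      exact ⟨l, hl, fun x _ => h0 x⟩
    · exact proKer hdc hcd hT H n
  refine ⟨l, fun k h hk z => ?_⟩
  have hf := fun j => (I ^ j • ⊤ : Submodule A M).injective_subtype
  have hg := fun j => (I ^ j • ⊤ : Submodule A M).mkQ_surjective
  have hfg := fun j => LinearMap.exact_subtype_mkQ (I ^ j • ⊤ : Submodule A M)
  refine (exactT₃ T (hf n) (hg n) (hfg n) i _).1 ?_
  rw [δT_natural T (hf k) (hg k) (hfg k) (hf n) (hg n) (hfg n) (a := tY I M h) (b := LinearMap.id) rfl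
    ((LinearMap.comp_id _).trans (qt_mkQ I M h).symm), ← tY_tY I hl hk, Tmap_comp]
  refine hker _ ?_
  rw [← Tmap_comp, subtype_tY]
  exact (exactT₁ T (hf k) (hg k) (hfg k) i _).2 ⟨z, rfl⟩

include hdc hcd hT H in
/-- Some `H^i_T(I^n M) → H^i_T(M)` vanishes. -/
theorem exists_subtype_zero (i : ℕ) (hi : i ≤ s) :
    ∃ m : ℕ, ∀ k, m ≤ k → ∀ x, Tmap T (I ^ k • ⊤ : Submodule A M).subtype i x = 0 := by
  obtain ⟨m, h, h0⟩ := proZero hdc hcd hT H i hi 0
  refine ⟨m, fun k hk x => ?_⟩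
  rw [← subtype_tY (I := I) (M := M) (Nat.zero_le k), ← tY_tY I h hk, Tmap_comp, Tmap_comp T (tY I M hk), h0, map_zero]

theorem qt_eq_id (n : ℕ) : qt I M (le_refl n) = LinearMap.id :=
  Submodule.linearMap_qext _ (LinearMap.ext fun _ => rfl)

theorem quotPowTrans_eq (l : ℕ) : Formal2.quotPowTrans A I M l = qt I M (Nat.le_succ (l + 1)) := by
  unfold Formal2.quotPowTrans qt Submodule.factor
  rfl

theorem qt_comp_trans (n l : ℕ) (h : n + 1 ≤ l + 1) :
    qt I M (h.trans (Nat.le_succ (l + 1))) = qt I M h ∘ₗ Formal2.quotPowTrans A I M l := by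
  rw [quotPowTrans_eq]
  exact (qt_qt I M h (Nat.le_succ (l + 1))).symm

theorem compat_qt (i : ℕ) (y : ∀ n : ℕ, Dual2.HT T i (Formal2.quotPow A I M n))
    (hy : ∀ n : ℕ, Tmap T (Formal2.quotPowTrans A I M n) i (y (n + 1)) = y n) (n l : ℕ) (h : n ≤ l) :
    Tmap T (qt I M (Nat.add_le_add_right h 1)) i (y l) = y n := by
  induction l, h using Nat.le_induction with
  | base => exact (congrArg (fun t => Tmap T t i (y n)) (qt_eq_id (n + 1))).trans (Tmap_id T i _)
  | succ l h ih =>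
    rw [show Tmap T (qt I M (Nat.add_le_add_right (h.trans l.le_succ) 1)) i (y (l + 1)) =
      Tmap T (qt I M (Nat.add_le_add_right h 1) ∘ₗ Formal2.quotPowTrans A I M l) i (y (l + 1)) from
        congrArg (fun t => Tmap T t i (y (l + 1))) (qt_comp_trans n l (Nat.add_le_add_right h 1)), Tmap_comp, hy l, ih]

theorem inj_of_subtype_zero (i k : ℕ)
    (h0 : ∀ x, Tmap T (I ^ k • ⊤ : Submodule A M).subtype i x = 0) (x : Dual2.HT T i M)
    (hx : Tmap T (I ^ k • ⊤ : Submodule A M).mkQ i x = 0) : x = 0 := by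
  obtain ⟨u, rfl⟩ := (exactT₂ T (Submodule.injective_subtype _) (Submodule.mkQ_surjective _)
    (LinearMap.exact_subtype_mkQ _) i x).1 hx
  exact h0 u

theorem smul_eq_zero_of_subtype_zero (i m : ℕ) (h0 : ∀ x, Tmap T (I ^ m • ⊤ : Submodule A M).subtype i x = 0)
    (a : A) (ha : a ∈ I ^ m) (x : Dual2.HT T i M) : a • x = 0 := by
  let μ : M →ₗ[A] ↥(I ^ m • ⊤ : Submodule A M) :=
    (a • LinearMap.id : M →ₗ[A] M).codRestrict _ fun x => Submodule.smul_mem_smul ha Submodule.mem_top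
  have h1 : Tmap T (a • LinearMap.id : M →ₗ[A] M) i x = a • x := by rw [Tmap_smul, Tmap_id]
  rw [← h1, ← LinearMap.subtype_comp_codRestrict (a • LinearMap.id : M →ₗ[A] M) (I ^ m • ⊤ : Submodule A M)
    fun x => Submodule.smul_mem_smul ha Submodule.mem_top, Tmap_comp]
  exact h0 _

include hdc hcd hT H in
theorem bijective_to_limit (i : ℕ) (hi : i ≤ s) :
    ((∀ x : Dual2.HT T i M, (∀ n : ℕ, Tmap T (Formal2.quotPowπ A I M n) i x = 0) → x = 0) ∧
      ∀ y : ∀ n : ℕ, Dual2.HT T i (Formal2.quotPow A I M n),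
        (∀ n : ℕ, Tmap T (Formal2.quotPowTrans A I M n) i (y (n + 1)) = y n) →
          ∃ x : Dual2.HT T i M, ∀ n : ℕ, Tmap T (Formal2.quotPowπ A I M n) i x = y n) ∧
    ∃ n : ℕ, ∀ a ∈ I ^ n, ∀ x : Dual2.HT T i M, a • x = 0 := by
  obtain ⟨m, hm⟩ := exists_subtype_zero hdc hcd hT H i hi
  refine ⟨⟨fun x hx => inj_of_subtype_zero i (m + 1) (hm (m + 1) m.le_succ) x (hx m), fun y hy => ?_⟩, m,
    fun a ha x => smul_eq_zero_of_subtype_zero i m (hm m le_rfl) a ha x⟩
  have hlift : ∀ n, ∃ x, Tmap T (I ^ (n + 1) • ⊤ : Submodule A M).mkQ i x = y n := fun n => by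
    obtain ⟨l, hl⟩ := exists_lift hdc hcd hT H i hi (n + 1)
    have hnl : n ≤ max n l := le_max_left _ _
    obtain ⟨x, hx⟩ := hl _ (Nat.add_le_add_right hnl 1) ((le_max_right n l).trans (Nat.le_succ _)) (y (max n l))
    exact ⟨x, hx.trans (compat_qt i y hy n _ hnl)⟩
  choose xs hxs using hlift
  have key : ∀ a b : ℕ, a ≤ b → Tmap T (I ^ (a + 1) • ⊤ : Submodule A M).mkQ i (xs b) = y a := fun a b h => by
    rw [← qt_mkQ I M (Nat.add_le_add_right h 1), Tmap_comp, hxs, compat_qt i y hy a b h]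
  refine ⟨xs m, fun n => ?_⟩
  rcases le_total n m with h | h
  · exact key n m h
  · have h1 : xs n = xs m := sub_eq_zero.1 (inj_of_subtype_zero i (m + 1) (hm (m + 1) m.le_succ) _
      (by rw [map_sub, key m n h, hxs, sub_self]))
    rw [← h1]
    exact hxs n

include hdc hcd hT H in
theorem isML (i : ℕ) (hi : i ≤ s) (n : ℕ) :
    ∃ (k : ℕ) (hk : n ≤ k), ∀ (l : ℕ) (hl : k ≤ l),
      Set.range (Tmap T (qt I M (hk.trans hl)) i) = Set.range (Tmap T (qt I M hk) i) := by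
  obtain ⟨l₀, h₀⟩ := exists_lift hdc hcd hT H i hi n
  refine ⟨max n l₀, le_max_left _ _, fun l hl => ?_⟩
  have key : ∀ (k : ℕ) (h : n ≤ k), l₀ ≤ k →
      Set.range (Tmap T (qt I M h) i) = Set.range (Tmap T (I ^ n • ⊤ : Submodule A M).mkQ i) := fun k h hk => by
    ext z
    constructor
    · rintro ⟨w, rfl⟩
      exact h₀ k h hk w
    · rintro ⟨x, rfl⟩
      exact ⟨Tmap T (I ^ k • ⊤ : Submodule A M).mkQ i x, by rw [← Tmap_comp, qt_mkQ]⟩
  rw [key l _ ((le_max_right _ _).trans hl), key _ _ (le_max_right _ _)]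

end Groth.Agent.H3CAlg.Boot
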