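import Groth.Agent.H3CAlg.Boot.Compare
import Groth.Agent.H3CAlg.PunctAlgebraize
import Groth.Agent.H4EssConst.Artinian
import Groth.Agent.S8792
import Groth.Agent.S8797
import Groth.Agent.H24Formal2.DimBetween

/-!
# Formal local cohomology at the closed point of a complete local ring is essentially constant
-/

set_option autoImplicit false
set_option linter.style.haveILetI false
set_option linter.unusedSectionVars false

universe u

open CategoryTheory CategoryTheory.Limits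
open Groth.Agent.H4DR
open Groth.Agent.H3CAlg.PunctCech (Hc hc)

attribute [local instance] HasDerivedCategory.standard

namespace Groth.Agent.H3CAlg.Boot

variable {A : Type u} [CommRing A]

set_option backward.isDefEq.respectTransparency.types false in
theorem HmapOfLE_comp {J₁ J₂ J₃ : Ideal A} (h : J₁ ≤ J₂) (h' : J₂ ≤ J₃) (i : ℕ) :
    (Dual2.HmapOfLE h' i : localCohomology J₃ i ⟶ localCohomology J₂ i) ≫
        (Dual2.HmapOfLE h i : localCohomology J₂ i ⟶ localCohomology J₁ i) =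
      (Dual2.HmapOfLE (h.trans h') i : localCohomology J₃ i ⟶ localCohomology J₁ i) := by
  refine colimit.hom_ext fun j => ?_
  unfold Dual2.HmapOfLE
  erw [ι_colimMap_assoc, ι_colimMap, ι_colimMap]
  refine (Category.assoc _ _ _).symm.trans ?_
  refine congrArg (· ≫ _) ?_
  refine (NatTrans.comp_app _ _ _).symm.trans (congrArg (fun t => NatTrans.app t j) ?_)
  refine (Functor.whiskerRight_comp _ _ _).symm.trans (congrArg (fun t => Functor.whiskerRight t _) ?_)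
  ext k
  refine Quiver.Hom.unop_inj ?_
  exact ModuleCat.hom_ext (Submodule.linearMap_qext _ (LinearMap.ext fun _ => rfl))

variable (I : Ideal A) (M : Type u) [AddCommGroup M] [Module A M]

/-- The transition map between the quotients. -/
noncomputable abbrev qt {n m : ℕ} (h : n ≤ m) : (M ⧸ (I ^ m • ⊤ : Submodule A M)) →ₗ[A] (M ⧸ (I ^ n • ⊤ : Submodule A M)) :=
  Submodule.factor (Submodule.smul_mono_left (Ideal.pow_le_pow_right h))

theorem qt_mkQ {n m : ℕ} (h : n ≤ m) : qt I M h ∘ₗ (I ^ m • ⊤ : Submodule A M).mkQ = (I ^ n • ⊤ : Submodule A M).mkQ :=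
  Submodule.factor_comp_mk _

theorem qt_qt {a b c : ℕ} (h : a ≤ b) (h' : b ≤ c) : qt I M h ∘ₗ qt I M h' = qt I M (h.trans h') :=
  Submodule.linearMap_qext _ (LinearMap.ext fun _ => rfl)

/-- The system `H^i_J(M/I^n M)`. -/
noncomputable def quotHSys (J : Ideal A) (i : ℕ) : ℕᵒᵖ ⥤ ModuleCat.{u} A where
  obj n := (localCohomology J i).obj (ModuleCat.of A (M ⧸ (I ^ n.unop • ⊤ : Submodule A M)))
  map {n m} a := (localCohomology J i).map (ModuleCat.ofHom (qt I M (leOfHom a.unop)))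
  map_id n := by
    rw [show qt I M (leOfHom (𝟙 n : n ⟶ n).unop) = LinearMap.id from Submodule.linearMap_qext _ (LinearMap.ext fun _ => rfl)]
    exact (localCohomology J i).map_id _
  map_comp {a b c} f g := by
    rw [← (localCohomology J i).map_comp, ← ModuleCat.ofHom_comp, qt_qt]

variable [IsNoetherianRing A] [IsLocalRing A] [IsAdicComplete I A] [Module.Finite A M]

theorem le_max : I ≤ IsLocalRing.maximalIdeal A := IsLocalRing.le_maximalIdeal fun h => by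
  have := IsAdicComplete.le_jacobson_bot I
  rw [h, IsLocalRing.jacobson_eq_maximalIdeal ⊥ bot_ne_top, top_le_iff] at this
  exact (IsLocalRing.maximalIdeal.isMaximal A).ne_top this

theorem radical_sup_eq (J : Ideal A)
    (h : ∀ q : PrimeSpectrum A, (J ≤ q.asIdeal ∧ I ≤ q.asIdeal) ↔ q.asIdeal = IsLocalRing.maximalIdeal A) :
    (J ⊔ I).radical = IsLocalRing.maximalIdeal A := by
  have hm := (h (IsLocalRing.closedPoint A)).2 rfl
  refine le_antisymm (((IsLocalRing.maximalIdeal.isMaximal A).isPrime.radical_le_iff).2 (sup_le hm.1 hm.2)) ?_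
  rw [Ideal.radical_eq_sInf]
  refine le_sInf fun p ⟨hp, hpp⟩ => ?_
  exact ((h ⟨p, hpp⟩).1 ⟨le_sup_left.trans hp, le_sup_right.trans hp⟩).ge

theorem bijective_HmapOfLE_quot {J : Ideal A} (hJ : J ≤ IsLocalRing.maximalIdeal A)
    (hrad : ∀ q : PrimeSpectrum A, J ≤ q.asIdeal → I ≤ q.asIdeal → q.asIdeal = IsLocalRing.maximalIdeal A)
    (n i : ℕ) : Function.Bijective
      ((Dual2.HmapOfLE hJ i).app (ModuleCat.of A (M ⧸ (I ^ n • ⊤ : Submodule A M)))).hom := by
  refine H3CAlg.Bootstrap.bijective_HmapOfLE_of_depth _ hJ i (fun p hp hpm => ?_) i le_rfl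
  have hpI : ¬ I ≤ p.asIdeal := fun h => hpm (hrad p hp h).ge
  obtain ⟨x, hx, hxp⟩ := SetLike.not_le_iff_exists.1 hpI
  haveI : Subsingleton (LocalizedModule p.asIdeal.primeCompl (M ⧸ (I ^ n • ⊤ : Submodule A M))) :=
    LocalizedModule.subsingleton_iff.2 fun y => by
      obtain ⟨v, rfl⟩ := Submodule.Quotient.mk_surjective _ y
      exact ⟨x ^ n, fun h => hxp (p.2.mem_of_pow_mem n h),
        (Submodule.Quotient.mk_eq_zero _).2 (Submodule.smul_mem_smul (Ideal.pow_mem_pow hx n) Submodule.mem_top)⟩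
  show (i : ℕ∞) < LocCoh.idealDepth _ _
  rw [H4Depth.idealDepth_eq_top (Subsingleton.elim _ _)]
  exact ENat.coe_lt_top i

variable (hω : ∃ ω : Dual.D A, Dual.IsDualizing A ω) (d : ℕ) (hd : LocCoh.CdLE A I d) (s : ℕ)
  (h4 : ∀ p : PrimeSpectrum A, ¬ I ≤ p.asIdeal →
    (s : ℕ∞) ≤ LocCoh.depth (Localization.AtPrime p.asIdeal) (LocalizedModule p.asIdeal.primeCompl M) ∨
    ((d + s : ℕ) : WithBot ℕ∞) <
      ((LocCoh.depth (Localization.AtPrime p.asIdeal) (LocalizedModule p.asIdeal.primeCompl M) : ℕ∞) : WithBot ℕ∞) +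
        ringKrullDim (A ⧸ p.asIdeal))
  (h6 : ∀ p : PrimeSpectrum A, ¬ I ≤ p.asIdeal →
    (∀ q : PrimeSpectrum A, p ≤ q → I ≤ q.asIdeal → q.asIdeal = IsLocalRing.maximalIdeal A) →
    (s : ℕ∞) < LocCoh.depth (Localization.AtPrime p.asIdeal) (LocalizedModule p.asIdeal.primeCompl M))

include hω hd h4 h6 in
/-- The ideal on which the comparison is made. -/
theorem exists_model :
    ∃ fs : List A, ∃ hle : Ideal.ofList fs ≤ IsLocalRing.maximalIdeal A,
      (Ideal.ofList fs ⊔ I).radical = IsLocalRing.maximalIdeal A ∧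
      (∀ i : ℕ, i ≤ s → Function.Bijective ((Dual2.HmapOfLE hle i).app (ModuleCat.of A M)).hom) ∧
      (∀ n i : ℕ, Function.Bijective
        ((Dual2.HmapOfLE hle i).app (ModuleCat.of A (M ⧸ (I ^ n • ⊤ : Submodule A M)))).hom) ∧
      ∀ i : ℕ, i ≤ s → Function.Bijective
        (HomologicalComplex.homologyMap (DComplete.ηC I (PunctCech.C fs M)) (i : ℤ)).hom := by
  let 𝔪 := IsLocalRing.maximalIdeal A
  have hI : I ≤ 𝔪 := le_max I
  obtain ⟨sI, hsI⟩ := IsNoetherian.noetherian I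
  haveI : DRing.HasDerivedCompletion I := hsI ▸ DComplete.hasDerivedCompletion sI
  obtain ⟨ω₀, hω₀⟩ := hω
  obtain ⟨ω, hω', hn⟩ := Groth.Agent.H4DR.LD.exists_normalized' hω₀
  obtain ⟨J₁, hV, hmain⟩ := Groth.Agent.H3CAlg.exists_algebraize hω' hn I d hd M s fun p hpI _ k δ hk hδ => by
    have h := h4 p hpI
    rw [hk, hδ] at h
    rcases h with h | h
    · exact Or.inl (by exact_mod_cast h)
    · exact Or.inr (by exact_mod_cast h)
  have hdimq : ∀ p q : PrimeSpectrum A, p ≤ q → q.asIdeal = 𝔪 →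
      Formal2.dimBetween A p.asIdeal q.asIdeal = ringKrullDim (A ⧸ p.asIdeal) := fun p q hpq hq => by
    rw [H24Formal2.dimBetween_eq hpq, show q = IsLocalRing.closedPoint A from PrimeSpectrum.ext hq,
      S8797Aux.krullDim_Icc_closedPoint]
  obtain ⟨J₂, hJ₂m, ⟨-, hV₂, hcmp₂, -⟩, hcmp₁, -⟩ := Groth.Agent.S8792.result A ⟨ω₀, hω₀⟩ I 𝔪 M s d
    {p | ∀ q : PrimeSpectrum A, p ≤ q → I ≤ q.asIdeal → 𝔪 ≤ q.asIdeal} (fun p => Iff.rfl)
    (fun p hpI hpT => by
      refine ⟨IsLocalRing.closedPoint A, IsLocalRing.le_maximalIdeal p.2.ne_top, le_rfl, hI, ?_⟩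
      rw [hdimq p _ (IsLocalRing.le_maximalIdeal p.2.ne_top) rfl]
      refine S8797Aux.ringKrullDim_quotient_le_of_cdLE hd p.asIdeal (radical_sup_eq I p.asIdeal fun q => ⟨fun h => ?_, fun h => ?_⟩)
      · exact (IsLocalRing.maximalIdeal.isMaximal A).eq_of_le q.2.ne_top (hpT q h.1 h.2) |>.symm
      · rw [h]; exact ⟨IsLocalRing.le_maximalIdeal p.2.ne_top, hI⟩)
    (fun p hpI hpT q hpq hqm hqI => by
      rw [hdimq p q hpq ((IsLocalRing.maximalIdeal.isMaximal A).eq_of_le q.2.ne_top hqm).symm]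
      exact_mod_cast h4 p hpI)
    (fun p hpI hpT => h6 p hpI fun q hpq hqI =>
      ((IsLocalRing.maximalIdeal.isMaximal A).eq_of_le q.2.ne_top (hpT q hpq hqI)).symm)
  obtain ⟨sJ, hsJ⟩ := IsNoetherian.noetherian (J₁ * J₂)
  let fs : List A := sJ.toList
  have hfs : Ideal.ofList fs = J₁ * J₂ := by
    rw [← hsJ, Ideal.ofList]
    exact congrArg Ideal.span (Set.ext fun x => Finset.mem_toList)
  have hle₂ : Ideal.ofList fs ≤ J₂ := hfs ▸ Ideal.mul_le_right
  have hle : Ideal.ofList fs ≤ 𝔪 := hle₂.trans hJ₂m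
  have hVV : ∀ q : PrimeSpectrum A, (Ideal.ofList fs ≤ q.asIdeal ∧ I ≤ q.asIdeal) ↔ q.asIdeal = 𝔪 := fun q => by
    refine ⟨fun ⟨h, hqI⟩ => ?_, fun h => ⟨hle.trans h.ge, hI.trans h.ge⟩⟩
    rw [hfs, q.2.mul_le] at h
    rcases h with h | h
    · exact ((hV q).1 ⟨h, hqI⟩).1
    · have := hV₂.le (show q ∈ PrimeSpectrum.zeroLocus (J₂ : Set A) ∩ PrimeSpectrum.zeroLocus (I : Set A) from ⟨h, hqI⟩)
      exact ((IsLocalRing.maximalIdeal.isMaximal A).eq_of_le q.2.ne_top this.1).symm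
  have hrad := radical_sup_eq I _ hVV
  refine ⟨fs, hle, hrad, fun i hi => ?_, fun n i => bijective_HmapOfLE_quot I M hle (fun q h h' => (hVV q).1 ⟨h, h'⟩) n i,
    fun i hi => ?_⟩
  · rw [← HmapOfLE_comp hle₂ hJ₂m i]
    exact (hcmp₂ _ hle₂ (Set.ext fun q => ⟨fun h => ⟨((hVV q).1 h).ge, h.2⟩, fun h => ⟨hle.trans h.1, h.2⟩⟩) i hi).comp
      (hcmp₁ i hi).1
  · haveI : DRing.HasRgammaI (Ideal.ofList fs) := RG.hasRgammaI _
    exact PunctCech.bijective_homologyMap_ηC fs I rfl M (i : ℤ)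
      (hmain (Ideal.ofList fs) (hfs ▸ Ideal.mul_le_left) hrad i (by exact_mod_cast hi))

include hω hd h4 h6 in
/-- `H^i_𝔪(M) → (H^i_𝔪(M/I^nM))_n` is essentially constant for `i ≤ s`. -/
theorem local_ess (i : ℕ) (hi : i ≤ s) :
    (∃ n : ℕ, Function.Injective (H4LC.Hmap (IsLocalRing.maximalIdeal A) (I ^ n • ⊤ : Submodule A M).mkQ i)) ∧
    ∀ m : ℕ, ∃ (k : ℕ) (h : m ≤ k),
      LinearMap.range (H4LC.Hmap (IsLocalRing.maximalIdeal A) (qt I M h) i) ≤
        LinearMap.range (H4LC.Hmap (IsLocalRing.maximalIdeal A) (I ^ m • ⊤ : Submodule A M).mkQ i) := by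
  obtain ⟨fs, hle, hrad, hM, hQ, hη⟩ := exists_model I M hω d hd s h4 h6
  obtain ⟨e, he⟩ := agree_lc_cech (A := A) fs i
  obtain ⟨hinj, hsurj⟩ := PunctCech.cech_lim fs I hrad M (i : ℤ) (hη i hi)
  let 𝔪 := IsLocalRing.maximalIdeal A
  let ν : ∀ X : ModuleCat.{u} A, LocCoh.H 𝔪 i X →ₗ[A] LocCoh.H (Ideal.ofList fs) i X :=
    fun X => ((Dual2.HmapOfLE hle i).app X).hom
  have hν : ∀ {X Y : ModuleCat.{u} A} (φ : X →ₗ[A] Y) z,
      ν Y (H4LC.Hmap 𝔪 φ i z) = H4LC.Hmap (Ideal.ofList fs) φ i (ν X z) := fun φ z =>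
    congr($((Dual2.HmapOfLE hle i).naturality (ModuleCat.ofHom φ)).hom z)
  -- the composite to Čech cohomology
  let c : ∀ X : ModuleCat.{u} A, LocCoh.H 𝔪 i X →+ Hc fs (i : ℤ) X :=
    fun X => (e X).toAddMonoidHom.comp (ν X).toAddMonoidHom
  have hc' : ∀ {X Y : ModuleCat.{u} A} (φ : X →ₗ[A] Y) z, c Y (H4LC.Hmap 𝔪 φ i z) = hc fs φ (i : ℤ) (c X z) :=
    fun φ z => (congrArg (e _) (hν φ z)).trans (he φ _)
  have hcM : Function.Bijective (c (ModuleCat.of A M)) := (e _).bijective.comp (hM i hi)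
  have hcQ : ∀ n, Function.Bijective (c (ModuleCat.of A (M ⧸ (I ^ n • ⊤ : Submodule A M)))) := fun n =>
    (e _).bijective.comp (hQ n i)
  have hI1 : ∀ x : LocCoh.H 𝔪 i M, (∀ n : ℕ, H4LC.Hmap 𝔪 (I ^ n • ⊤ : Submodule A M).mkQ i x = 0) → x = 0 :=
    fun x hx => (map_eq_zero_iff (c (ModuleCat.of A M)) hcM.1).1 (hinj _ fun n => by
      refine (hc' (X := ModuleCat.of A M) (Y := ModuleCat.of A (M ⧸ (I ^ n • ⊤ : Submodule A M))) _ x).symm.trans ?_
      rw [hx n]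
      exact map_zero _)
  have hS1 : ∀ y : ∀ n, LocCoh.H 𝔪 i (M ⧸ (I ^ n • ⊤ : Submodule A M)),
      (∀ (n m : ℕ) (h : n ≤ m), H4LC.Hmap 𝔪 (qt I M h) i (y m) = y n) →
      ∃ x, ∀ n, H4LC.Hmap 𝔪 (I ^ n • ⊤ : Submodule A M).mkQ i x = y n := by
    intro y hy
    obtain ⟨z, hz⟩ := hsurj (fun n => c (ModuleCat.of A _) (y n)) fun n => by
      have h0 := hy n (n + 1) n.le_succ
      refine Eq.trans ?_ (congrArg (c (ModuleCat.of A _)) h0)
      refine Eq.trans ?_ (hc' (X := ModuleCat.of A _) (Y := ModuleCat.of A _) _ _).symm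
      refine congrArg (fun t => hc fs t (i : ℤ) (c (ModuleCat.of A _) (y (n + 1)))) ?_
      exact Submodule.linearMap_qext _ (LinearMap.ext fun _ => rfl)
    obtain ⟨x, rfl⟩ := hcM.2 z
    exact ⟨x, fun n => (hcQ n).1 ((hc' (X := ModuleCat.of A M) (Y := ModuleCat.of A _) _ x).trans (hz n))⟩
  let Xs := quotHSys I M 𝔪 i
  let cn : (Functor.const ℕᵒᵖ).obj ((localCohomology 𝔪 i).obj (ModuleCat.of A M)) ⟶ Xs :=
    { app := fun n => (localCohomology 𝔪 i).map (ModuleCat.ofHom (I ^ n.unop • ⊤ : Submodule A M).mkQ)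
      naturality := fun {a b} f => by
        refine (Category.id_comp _).trans ?_
        refine (congrArg (fun t => (localCohomology 𝔪 i).map (ModuleCat.ofHom t)) (qt_mkQ I M (leOfHom f.unop))).symm.trans ?_
        rw [ModuleCat.ofHom_comp, (localCohomology 𝔪 i).map_comp]
        rfl }
  haveI : ∀ n, IsArtinian A (Xs.obj (Opposite.op n)) := fun n => H4LC.isArtinian_H i _
  haveI : IsArtinian A ((localCohomology 𝔪 i).obj (ModuleCat.of A M)) := H4LC.isArtinian_H i M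
  obtain ⟨i₀, S, hS, hk⟩ := H4EssConst.isEssConstant Xs _ cn hI1 hS1
  refine ⟨⟨i₀, Function.LeftInverse.injective (g := S.hom) fun x => congr($(hS).hom x)⟩, fun m => ?_⟩
  obtain ⟨k, h₁, h₂, hkk⟩ := hk m
  refine ⟨k, h₂, ?_⟩
  rintro _ ⟨x, rfl⟩
  exact ⟨S.hom ((ARSys.tr Xs h₁).hom x), (congr($(hkk).hom x)).symm⟩

end Groth.Agent.H3CAlg.Boot
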