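import Groth.Agent.H3CAlg.Boot.Retract
import Groth.Agent.S8940
import Groth.Agent.S8946

/-!
# The systems `H^i_T(I^n M)`
-/

set_option autoImplicit false
set_option linter.style.haveILetI false
set_option linter.unusedSectionVars false

universe u

open CategoryTheory

attribute [local instance] HasDerivedCategory.standard

namespace Groth.Agent.H3CAlg.Boot

variable {A : Type u} [CommRing A] [IsNoetherianRing A] {I : Ideal A} {T : Set (PrimeSpectrum A)} {s d : ℕ}
  {M : Type u} [AddCommGroup M] [Module A M] [Module.Finite A M]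
variable (hdc : ∃ ω : Dual.D A, Dual.IsDualizing A ω) (hcd : LocCoh.CdLE A I d) (hT : StableUnderSpecialization T)
  (H : Hyp M I T s d)

theorem subtype_tY {n m : ℕ} (h : n ≤ m) :
    (I ^ n • ⊤ : Submodule A M).subtype ∘ₗ tY I M h = (I ^ m • ⊤ : Submodule A M).subtype := rfl

include hdc in
theorem dim_lt_top : ringKrullDim A < ⊤ := by
  obtain ⟨ω, hω⟩ := hdc
  exact H4DR.Dualizing.ringKrullDim_lt_top hω

include hdc hcd H in
/-- Pointwise, with one index for all points. -/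
theorem exists_uniform (i : ℕ) (hi : i ≤ s + 1) :
    ∃ (m' : ℕ → ℕ) (hm' : ∀ m, m ≤ m' m), ∀ q ∈ T, ∀ (m k : ℕ) (h : m ≤ k), m' m ≤ k →
      LinearMap.range (Qmap q (tY I M h) i) = LinearMap.range (Qmap q (tY I M (hm' m)) i) ∧
      (i ≤ s → Qmap q (tY I M h) i = 0) ∧
      ∀ x, Qmap q (I ^ k • ⊤ : Submodule A M).subtype i x = 0 → Qmap q (tY I M h) i x = 0 := by
  obtain ⟨m', hm', hrange⟩ := exists_uniform_range (fun n => ↥(I ^ n • ⊤ : Submodule A M))
    (fun k m h => tY I M h) hdc (fun k l m h₁ h₂ => (tY_tY I h₁ h₂).symm) i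
  refine ⟨m', hm', fun q hq m k h hk => ?_⟩
  have hz : ∀ j, i ≤ s → ∀ h : m ≤ j, m' m ≤ j → Qmap q (tY I M h) i = 0 := by
    intro j his h hj
    obtain ⟨k₁, h₁, hk₁⟩ := (pointwise hdc hcd H hq).1 i his m
    have h0 : Qmap q (tY I M (h₁.trans (le_max_left k₁ (m' m)))) i = 0 := by
      ext x
      rw [← tY_tY I h₁ (le_max_left k₁ (m' m)), Qmap_comp, hk₁]
      rfl
    rw [← LinearMap.range_eq_bot, hrange q m j h hj, ← hrange q m _ (h₁.trans (le_max_left k₁ (m' m))) (le_max_right k₁ (m' m)), h0,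
      LinearMap.range_zero]
  refine ⟨hrange q m k h hk, fun his => hz k his h hk, fun x hx => ?_⟩
  rcases hi.lt_or_eq with hlt | rfl
  · rw [hz k (by omega) h hk]; rfl
  obtain ⟨k₁, h₁, hk₁⟩ := (pointwise hdc hcd H hq).2 m
  obtain ⟨z, hz⟩ := (hrange q m k h hk).trans (hrange q m _ (h₁.trans (le_max_left k₁ (m' m))) (le_max_right _ _)).symm
    |>.le ⟨x, rfl⟩
  rw [← hz, ← tY_tY I h₁ (le_max_left k₁ (m' m)), Qmap_comp]
  refine hk₁ _ ?_
  rw [← Qmap_comp, subtype_tY, ← subtype_tY (h₁.trans (le_max_left k₁ (m' m))), Qmap_comp, hz, ← Qmap_comp,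
    subtype_tY]
  exact hx

include hdc hcd hT H in
/-- The systems are pro-zero in degrees `≤ s`. -/
theorem proZero (i : ℕ) (hi : i ≤ s) (n : ℕ) :
    ∃ (m : ℕ) (h : n ≤ m), ∀ x, Tmap T (tY I M h) i x = 0 := by
  obtain ⟨m', hm', hu⟩ := exists_uniform hdc hcd H i (hi.trans s.le_succ)
  obtain ⟨e, he⟩ : ∃ e : ℕ, Order.krullDim ↥T ≤ (e : WithBot ℕ∞) := by
    have h1 : Order.krullDim ↥T ≤ ringKrullDim A :=
      Order.krullDim_le_of_strictMono Subtype.val fun _ _ h => h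
    have h2 := h1.trans_lt (dim_lt_top hdc)
    generalize Order.krullDim ↥T = D at h2
    match D, h2 with
    | ⊥, _ => exact ⟨0, bot_le⟩
    | (k : ℕ), _ => exact ⟨k, le_rfl⟩
    | ⊤, h2 => exact absurd h2 (lt_irrefl _)
  have hn : n ≤ (m'^[2 ^ e]) n := Function.id_le_iterate_of_id_le hm' _ n
  refine ⟨_, hn, fun x => ?_⟩
  have h := S8940.result A (dim_lt_top hdc) T hT e he (fun n => ↥(I ^ n • ⊤ : Submodule A M))
    (fun k m h => tY I M h) (fun k l m h₁ h₂ => (tY_tY I h₁ h₂).symm) i m' hm'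
    (fun p hp m k h hk => ModuleCat.hom_ext ((hu p hp m k h hk).2.1 hi)) n _ hn le_rfl
  exact congr($(h).hom x)

include hdc hcd hT H in
/-- In degree `s + 1` the images eventually inject into a fixed term. -/
theorem injectsBelow :
    ∃ m₀ : ℕ, ∀ (m : ℕ) (hm : m₀ ≤ m), ∃ (m' : ℕ) (hm' : m ≤ m'), ∀ (k : ℕ) (hk : m' ≤ k), ∀ x,
      Tmap T (tY I M (hm.trans (hm'.trans hk))) (s + 1) x = 0 → Tmap T (tY I M (hm'.trans hk)) (s + 1) x = 0 := by
  obtain ⟨a, ha, hua⟩ := exists_uniform hdc hcd H s s.le_succ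
  obtain ⟨b, hb, hub⟩ := exists_uniform hdc hcd H (s + 1) le_rfl
  obtain ⟨m₀, h₀⟩ := S8946.result A (dim_lt_top hdc) T hT (fun n => ↥(I ^ n • ⊤ : Submodule A M))
    (fun k m h => tY I M h) (fun k l m h₁ h₂ => (tY_tY I h₁ h₂).symm) (s + 1) (fun m => max (a m) (b m))
    (fun m => (ha m).trans (le_max_left _ _))
    (fun _ p hp m k h hk => ModuleCat.hom_ext ((hua p hp m k h (le_of_max_le_left hk)).2.1 le_rfl))
    (fun p hp m k h hk => (hub p hp m k h (le_of_max_le_right hk)).1.trans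
      (hub p hp m _ ((ha m).trans (le_max_left _ _)) (le_max_right _ _)).1.symm)
    (fun p hp m x hx h0 => by
      obtain ⟨z, rfl⟩ := hx
      refine (hub p hp m _ _ (le_max_right _ _)).2.2 z ?_
      rw [← subtype_tY (Nat.zero_le (max (a m) (b m))), Qmap_comp,
        ← tY_tY I (Nat.zero_le m) ((ha m).trans (le_max_left _ _)), Qmap_comp]
      exact (congrArg _ h0).trans (map_zero _))
  refine ⟨m₀, fun m hm => ?_⟩
  obtain ⟨m'', hmm, h''⟩ := h₀ m hm
  refine ⟨m'', hmm, fun k hk x hx => h'' k (hmm.trans hk) hk _ ⟨x, rfl⟩ ?_⟩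
  show Tmap T (tY I M hm) (s + 1) (Tmap T (tY I M (hmm.trans hk)) (s + 1) x) = 0
  rw [← Tmap_comp, tY_tY]
  exact hx

theorem smul_top_pi {X : Type u} [AddCommGroup X] [Module A X] (r : ℕ) (J : Ideal A) (v : Fin r → X) :
    v ∈ (J • ⊤ : Submodule A (Fin r → X)) ↔ ∀ j, v j ∈ (J • ⊤ : Submodule A X) := by
  refine ⟨fun h j => ?_, fun h => ?_⟩
  · have := Submodule.mem_map_of_mem (f := LinearMap.proj (R := A) (φ := fun _ : Fin r => X) j) h
    rw [Submodule.map_smul''] at this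
    exact Submodule.smul_mono le_rfl le_top this
  · rw [← Finset.univ_sum_single v]
    refine Submodule.sum_mem _ fun j _ => ?_
    have := Submodule.mem_map_of_mem (f := LinearMap.single A (fun _ : Fin r => X) j) (h j)
    rw [Submodule.map_smul''] at this
    exact Submodule.smul_mono le_rfl le_top this

include hdc hcd hT H in
/-- The kernels of `H^{s+1}_T(I^n M) → H^{s+1}_T(M)` are pro-zero. -/
theorem proKer (m : ℕ) :
    ∃ (l : ℕ) (h : m ≤ l), ∀ x, Tmap T (I ^ l • ⊤ : Submodule A M).subtype (s + 1) x = 0 →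
      Tmap T (tY I M h) (s + 1) x = 0 := by
  classical
  obtain ⟨N₀, hS⟩ := injectsBelow hdc hcd hT H
  obtain ⟨r, c, hc⟩ := Submodule.fg_iff_exists_fin_generating_family.1 (IsNoetherian.noetherian (I ^ N₀))
  have hcI : ∀ j, c j ∈ I ^ N₀ := fun j => hc ▸ Submodule.subset_span ⟨j, rfl⟩
  let K : Submodule A M := ⨅ j, LinearMap.ker (c j • LinearMap.id : M →ₗ[A] M)
  obtain ⟨k₀, hk₀⟩ := Ideal.exists_pow_inf_eq_pow_smul I K
  let n₀ := k₀ + N₀
  let X : Submodule A M := I ^ n₀ • ⊤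
  let Δ : ↥X →ₗ[A] (Fin r → ↥X) := LinearMap.pi fun j => c j • LinearMap.id
  have hΔ : Function.Injective Δ := by
    refine (injective_iff_map_eq_zero _).2 fun x hx => Subtype.ext ?_
    have hxK : (x : M) ∈ K := by
      simp only [K, Submodule.mem_iInf, LinearMap.mem_ker]
      exact fun j => congrArg Subtype.val (congrFun hx j)
    have h1 := (hk₀ n₀ (Nat.le_add_right _ _)).le (Submodule.mem_inf.2 ⟨x.2, hxK⟩)
    rw [show n₀ - k₀ = N₀ from Nat.add_sub_cancel_left k₀ N₀] at h1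
    refine (Submodule.mem_bot A).1 (Submodule.smul_le.2 (fun a ha y hy => ?_) h1)
    rw [← hc] at ha
    induction ha using Submodule.span_induction with
    | mem a ha =>
      obtain ⟨j, rfl⟩ := ha
      exact (Submodule.mem_bot A).2 ((Submodule.mem_iInf _).1 (Submodule.mem_inf.1 hy).2 j)
    | zero => rw [zero_smul]; exact zero_mem _
    | add a b _ _ ha hb => rw [add_smul]; exact add_mem ha hb
    | smul t a _ ha => rw [smul_assoc]; exact Submodule.smul_mem _ t ha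
  obtain ⟨a, ha⟩ := Ideal.exists_pow_inf_eq_pow_smul I (LinearMap.range Δ)
  let P := (Fin r → ↥X) ⧸ LinearMap.range Δ
  -- `P` satisfies the hypotheses
  have HP : Hyp P I T s d := by
    let θ₀ : (Fin r → ↥X) →ₗ[A] (Fin (r * r) → M) := LinearMap.pi fun z =>
      c (finProdFinEquiv.symm z).2 • (X.subtype ∘ₗ LinearMap.proj (finProdFinEquiv.symm z).1) -
        c (finProdFinEquiv.symm z).1 • (X.subtype ∘ₗ LinearMap.proj (finProdFinEquiv.symm z).2)
    have hθ : LinearMap.range Δ ≤ LinearMap.ker θ₀ := by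
      rintro _ ⟨x, rfl⟩
      refine funext fun z => ?_
      simp [θ₀, Δ, smul_smul, mul_comm]
    refine H.of_retract (r * r) ((LinearMap.range Δ).liftQ θ₀ hθ) fun p hp => ?_
    obtain ⟨b, hb, hbp⟩ := SetLike.not_le_iff_exists.1 hp
    obtain ⟨j₀, hj₀⟩ : ∃ j, c j ∉ p.asIdeal := by
      by_contra hall
      push Not at hall
      exact hbp (p.2.mem_of_pow_mem N₀ ((Submodule.span_le.2 (Set.range_subset_iff.2 hall))
        (hc.ge (Ideal.pow_mem_pow hb N₀))))
    let σ₁ : (Fin (r * r) → M) →ₗ[A] (Fin r → ↥X) := LinearMap.pi fun i =>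
      LinearMap.codRestrict X (b ^ n₀ • LinearMap.proj (finProdFinEquiv (i, j₀)))
        fun w => Submodule.smul_mem_smul (Ideal.pow_mem_pow hb n₀) Submodule.mem_top
    refine ⟨b ^ n₀ * c j₀, fun h => (p.2.mem_or_mem h).elim (fun h => hbp (p.2.mem_of_pow_mem n₀ h)) hj₀,
      (LinearMap.range Δ).mkQ ∘ₗ σ₁, Submodule.linearMap_qext _ (LinearMap.ext fun v => ?_)⟩
    show (Submodule.Quotient.mk (σ₁ (θ₀ v)) : P) = (b ^ n₀ * c j₀) • (Submodule.Quotient.mk v : P)
    rw [← Submodule.Quotient.mk_smul, Submodule.Quotient.eq]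
    refine ⟨-(b ^ n₀ • v j₀), funext fun i => Subtype.ext ?_⟩
    show c i • -(b ^ n₀ • (v j₀ : M)) = _
    simp only [σ₁, θ₀, LinearMap.pi_apply, Pi.sub_apply, Pi.smul_apply, Submodule.coe_sub,
      LinearMap.codRestrict_apply, LinearMap.smul_apply, LinearMap.proj_apply, LinearMap.sub_apply,
      Equiv.symm_apply_apply, LinearMap.comp_apply, Submodule.subtype_apply, SetLike.val_smul, smul_sub, smul_smul,
      smul_neg, mul_comm (c i)]
    abel
  -- the sequences
  let Xn : ℕ → Submodule A ↥X := fun n => I ^ n • ⊤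
  let W : ℕ → Submodule A (Fin r → ↥X) := fun n => I ^ n • ⊤
  let L : ℕ → Submodule A ↥X := fun n => (W n).comap Δ
  let f : ∀ n, ↥(L n) →ₗ[A] ↥(W n) := fun n => (Δ ∘ₗ (L n).subtype).codRestrict (W n) fun x => x.2
  let g : ∀ n, ↥(W n) →ₗ[A] ↥(I ^ n • ⊤ : Submodule A P) := fun n =>
    ((LinearMap.range Δ).mkQ ∘ₗ (W n).subtype).codRestrict _ fun w => by
      have := Submodule.mem_map_of_mem (f := (LinearMap.range Δ).mkQ) w.2
      rw [Submodule.map_smul'', Submodule.map_top, Submodule.range_mkQ] at this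
      exact this
  have hf : ∀ n, Function.Injective (f n) := fun n x y h => Subtype.ext (hΔ (congrArg Subtype.val h))
  have hg : ∀ n, Function.Surjective (g n) := fun n z => by
    obtain ⟨w, hw, hwz⟩ := (show (z : P) ∈ (W n).map (LinearMap.range Δ).mkQ by
      rw [Submodule.map_smul'', Submodule.map_top, Submodule.range_mkQ]; exact z.2)
    exact ⟨⟨w, hw⟩, Subtype.ext hwz⟩
  have hfg : ∀ n, Function.Exact (f n) (g n) := fun n w => by
    constructor
    · intro h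
      obtain ⟨x, hx⟩ := (Submodule.Quotient.mk_eq_zero _).1 (congrArg Subtype.val h)
      exact ⟨⟨x, show Δ x ∈ W n from hx.symm ▸ w.2⟩, Subtype.ext hx⟩
    · rintro ⟨x, rfl⟩
      exact Subtype.ext ((Submodule.Quotient.mk_eq_zero _).2 ⟨_, rfl⟩)
  have hXn : ∀ (n : ℕ) (x : ↥X), x ∈ Xn n ↔ (x : M) ∈ (I ^ (n + n₀) • ⊤ : Submodule A M) := fun n x => by
    have he : (Xn n).map X.subtype = I ^ (n + n₀) • ⊤ := by
      rw [Submodule.map_smul'', Submodule.map_top, Submodule.range_subtype, ← Submodule.mul_smul, ← pow_add]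
    rw [← he]
    exact ⟨fun h => Submodule.mem_map_of_mem h, fun ⟨y, hy, hyx⟩ => (Subtype.ext hyx : y = x) ▸ hy⟩
  let n₁ := m + a
  obtain ⟨n', hn', hZ⟩ := proZero hdc hcd hT HP s le_rfl n₁
  let n := max n' N₀
  have hn₁ : n₁ ≤ n := hn'.trans (le_max_left _ _)
  obtain ⟨k₁, hk₁, hSk⟩ := hS (n + n₀) ((le_max_right n' N₀).trans (Nat.le_add_right _ _))
  have hml : m ≤ k₁ := le_trans (by omega) hk₁
  refine ⟨k₁, hml, fun y hy => ?_⟩
  let Y : Submodule A M := I ^ k₁ • ⊤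
  have hYX : Y ≤ X := Submodule.smul_mono_left (Ideal.pow_le_pow_right ((Nat.le_add_left n₀ n).trans hk₁))
  have hYn : ∀ x : ↥Y, (Submodule.inclusion hYX x) ∈ Xn n := fun x =>
    (hXn n _).2 (Submodule.smul_mono_left (Ideal.pow_le_pow_right hk₁) x.2)
  let ι : ↥Y →ₗ[A] ↥(L n) := (Submodule.inclusion hYX).codRestrict (L n) fun x =>
    (smul_top_pi r _ _).2 fun j => Submodule.smul_mem _ _ (hYn x)
  let proj : Fin r → (↥(W n) →ₗ[A] ↥(Xn n)) := fun j =>
    (LinearMap.proj j ∘ₗ (W n).subtype).codRestrict (Xn n) fun w => (smul_top_pi r _ _).1 w.2 j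
  let single : Fin r → (↥(Xn n) →ₗ[A] ↥(W n)) := fun j =>
    (LinearMap.single A (fun _ : Fin r => ↥X) j ∘ₗ (Xn n).subtype).codRestrict (W n) fun x =>
      (smul_top_pi r _ _).2 fun i => by
        rcases eq_or_ne i j with rfl | hij
        · simp
        · simp [hij]
  have hid : (LinearMap.id : ↥(W n) →ₗ[A] ↥(W n)) = ∑ j, single j ∘ₗ proj j := LinearMap.ext fun w => Subtype.ext <| by
    rw [LinearMap.id_apply, LinearMap.sum_apply, Submodule.coe_sum]
    exact (Finset.univ_sum_single (w : Fin r → ↥X)).symm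
  let κ : ↥(I ^ (n + n₀) • ⊤ : Submodule A M) →ₗ[A] ↥(Xn n) :=
    (Submodule.inclusion (Submodule.smul_mono_left (Ideal.pow_le_pow_right (Nat.le_add_left n₀ n)) :
      (I ^ (n + n₀) • ⊤ : Submodule A M) ≤ X)).codRestrict (Xn n) fun x => (hXn n _).2 x.2
  have hzero : Tmap T (f n) (s + 1) (Tmap T ι (s + 1) y) = 0 := by
    rw [← Tmap_comp, ← Tmap_id T (s + 1) (Tmap T (f n ∘ₗ ι) (s + 1) y), hid, Tmap_sum]
    refine Finset.sum_eq_zero fun j _ => ?_
    rw [Tmap_comp, ← Tmap_comp T (f n ∘ₗ ι) (proj j),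
      show proj j ∘ₗ f n ∘ₗ ι = κ ∘ₗ (c j • tY I M hk₁) from
        LinearMap.ext fun x => Subtype.ext (Subtype.ext rfl),
      Tmap_comp, Tmap_smul, ← map_smul, hSk k₁ le_rfl (c j • y) ?_, map_zero, map_zero]
    rw [map_smul, ← Tmap_smul]
    let μ : M →ₗ[A] ↥(I ^ N₀ • ⊤ : Submodule A M) :=
      (c j • LinearMap.id : M →ₗ[A] M).codRestrict _ fun x => Submodule.smul_mem_smul (hcI j) Submodule.mem_top
    refine (congrArg (fun t => Tmap T t (s + 1) y) (LinearMap.ext fun x => Subtype.ext rfl :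
      _ = μ ∘ₗ (I ^ k₁ • ⊤ : Submodule A M).subtype)).trans ?_
    rw [Tmap_comp, hy, map_zero]
  obtain ⟨w, hw⟩ := (exactT₁ T (hf n) (hg n) (hfg n) s _).1 hzero
  have hWle : W n ≤ W n₁ := Submodule.smul_mono_left (Ideal.pow_le_pow_right hn₁)
  have hLle : L n ≤ L n₁ := Submodule.comap_mono hWle
  have hlast : Tmap T (Submodule.inclusion hLle) (s + 1) (Tmap T ι (s + 1) y) = 0 := by
    rw [← hw, ← δT_natural T (hf n) (hg n) (hfg n) (hf n₁) (hg n₁) (hfg n₁) (b := Submodule.inclusion hWle)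
      (c := tY I P hn₁) rfl rfl, ← tY_tY I hn' (le_max_left n' N₀), Tmap_comp, hZ, map_zero]
  have hLX : ∀ x : ↥(L n₁), ((x : ↥X) : M) ∈ (I ^ m • ⊤ : Submodule A M) := fun x => by
    have h1 := (ha n₁ (Nat.le_add_left a m)).le (Submodule.mem_inf.2 ⟨x.2, x.1, rfl⟩)
    have h2 : Δ x ∈ ((I ^ (n₁ - a)) • ⊤ : Submodule A ↥X).map Δ := by
      rw [Submodule.map_smul'', Submodule.map_top]
      exact Submodule.smul_mono le_rfl inf_le_right h1
    obtain ⟨z, hz, hzx⟩ := h2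
    exact Submodule.smul_mono_left (Ideal.pow_le_pow_right (by omega)) ((hXn (n₁ - a) x.1).1 (hΔ hzx ▸ hz))
  rw [show tY I M hml = ((X.subtype ∘ₗ (L n₁).subtype).codRestrict _ hLX ∘ₗ Submodule.inclusion hLle) ∘ₗ ι from
    LinearMap.ext fun x => Subtype.ext rfl, Tmap_comp, Tmap_comp, hlast, map_zero]

end Groth.Agent.H3CAlg.Boot
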