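import Groth.Agent.H4HTPtwise.Basic
import Groth.Agent.H4DR.LD.Localized
import Groth.Agent.H4DR.LD.Unbounded

/-!
# The images in an inverse system of local cohomology stabilise uniformly in the prime
-/

set_option autoImplicit false
set_option linter.style.haveILetI false
set_option linter.unusedSectionVars false

universe u

open CategoryTheory CategoryTheory.Limits Pretriangulated TensorProduct
open Groth.Agent.H4DR
open Groth.Agent.H4DR.Ext (Ex pre addLin shiftSrc)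
open Groth.Agent.H4DR.FlatBC (FD β)
open Groth.Agent.H4DR.Dualizing (Loc loc deg)
open Groth.Agent.H4HTPtwise (shMap)

attribute [local instance] HasDerivedCategory.standard

namespace Groth.Agent.H3CAlg.Boot

section Pairing

variable {R : Type u} [CommRing R] (I : Ideal R) {O : Dual.D R} {E : Type u} [AddCommGroup E] [Module R E]
  (τ : LD.H I O →ₗ[R] E) (hE : Module.Injective R E)

include hE in
/-- The image of a map on `colim Hom(R/I^n, -)` only depends on the kernel of the dual map. -/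
theorem range_hmap_eq {W W₁ W₂ : Dual.D R} (g₁ : W₁ ⟶ W) (g₂ : W₂ ⟶ W) (h : LD.Good I τ W) (h₁ : LD.Good I τ W₁)
    (h₂ : LD.Good I τ W₂) (hk : ∀ φ : W ⟶ O, g₁ ≫ φ = 0 ↔ g₂ ≫ φ = 0) :
    LinearMap.range (LD.hmap I g₁) = LinearMap.range (LD.hmap I g₂) := by
  suffices key : ∀ {U V : Dual.D R} (g : U ⟶ W) (g' : V ⟶ W), LD.Good I τ V →
      (∀ φ : W ⟶ O, g' ≫ φ = 0 → g ≫ φ = 0) → LinearMap.range (LD.hmap I g) ≤ LinearMap.range (LD.hmap I g') from
    le_antisymm (key g₁ g₂ h₂ fun φ => (hk φ).2) (key g₂ g₁ h₁ fun φ => (hk φ).1)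
  intro U V g g' hV hgg
  rintro _ ⟨z, rfl⟩
  let u : (W ⟶ O) →ₗ[R] E := LD.θ I τ W (LD.hmap I g z)
  let f := pre g' O
  have hle : LinearMap.ker f ≤ LinearMap.ker u := fun φ hφ => by
    show LD.θ I τ W (LD.hmap I g z) φ = 0
    rw [LD.θ_natural]
    show LD.θ I τ U z (g ≫ φ) = 0
    rw [hgg φ hφ, map_zero]
  obtain ⟨v, hv⟩ := (Module.Baer.of_injective hE).extension_property ((LinearMap.ker f).liftQ f le_rfl)
    (LinearMap.ker_eq_bot.1 (Submodule.ker_liftQ_eq_bot _ _ _ le_rfl)) ((LinearMap.ker f).liftQ u hle)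
  obtain ⟨w, hw⟩ := hV.2 v
  refine ⟨w, h.1 ?_⟩
  rw [LD.θ_natural, hw]
  exact LinearMap.ext fun φ => LinearMap.congr_fun hv (Submodule.Quotient.mk φ)

end Pairing

section BaseChange

variable {A B : Type u} [CommRing A] [CommRing B] [Algebra A B] [Module.Flat A B]

/-- Kernels of dual maps after a flat base change only depend on those before. -/
theorem FD_comp_eq_zero_iff {X X₁ X₂ W : Dual.D A} (g₁ : X₁ ⟶ X) (g₂ : X₂ ⟶ X)
    (hX : FlatBC.Bij B X W) (h₁ : FlatBC.Bij B X₁ W) (h₂ : FlatBC.Bij B X₂ W)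
    (hk : LinearMap.ker (pre g₁ W) = LinearMap.ker (pre g₂ W)) (φ : (FD A B).obj X ⟶ (FD A B).obj W) :
    (FD A B).map g₁ ≫ φ = 0 ↔ (FD A B).map g₂ ≫ φ = 0 := by
  obtain ⟨t, rfl⟩ := hX.2 φ
  suffices key : ∀ {X' : Dual.D A} (g : X' ⟶ X), FlatBC.Bij B X' W →
      ((FD A B).map g ≫ β X W t = 0 ↔ t ∈ LinearMap.range ((LinearMap.ker (pre g W)).subtype.lTensor B)) by
    rw [key g₁ h₁, key g₂ h₂, hk]
  intro X' g hb
  refine ⟨fun h0 => ?_, fun hmem => ?_⟩
  · refine ((Module.Flat.lTensor_exact B (LinearMap.exact_subtype_ker_map (pre g W))) t).1 (hb.1 ?_)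
    rw [FlatBC.β_pre, map_zero]
    exact h0
  · have := ((Module.Flat.lTensor_exact B (LinearMap.exact_subtype_ker_map (pre g W))) t).2 hmem
    show pre ((FD A B).map g) _ (β X W t) = 0
    rw [← FlatBC.β_pre, this, map_zero]

end BaseChange

variable {A : Type u} [CommRing A]

section Local

variable {M N : Type u} [AddCommGroup M] [Module A M] [AddCommGroup N] [Module A N] (q : PrimeSpectrum A)

local instance : Module.Flat A (Loc q) := IsLocalization.flat (Loc q) q.asIdeal.primeCompl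

/-- Functoriality of local cohomology at a prime. -/
noncomputable abbrev Qmap (φ : M →ₗ[A] N) (i : ℕ) :
    LocCoh.H (IsLocalRing.maximalIdeal (Localization.AtPrime q.asIdeal)) i (LocalizedModule q.asIdeal.primeCompl M)
      →ₗ[Localization.AtPrime q.asIdeal]
    LocCoh.H (IsLocalRing.maximalIdeal (Localization.AtPrime q.asIdeal)) i (LocalizedModule q.asIdeal.primeCompl N) :=
  ((localCohomology (IsLocalRing.maximalIdeal (Localization.AtPrime q.asIdeal)) i).map
    (ModuleCat.ofHom (LocalizedModule.map q.asIdeal.primeCompl φ))).hom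

/-- The comparison with `colim Hom(A/q^n, M[i])` localised. -/
theorem exists_qEquiv (i : ℕ) :
    ∃ e : ∀ (X : ModuleCat.{u} A), LD.H (IsLocalRing.maximalIdeal (Loc q)) ((FD A (Loc q)).obj ((Dual.inD A X)⟦(i : ℤ)⟧))
        ≃ₗ[Loc q] LocCoh.H (IsLocalRing.maximalIdeal (Loc q)) i (LocalizedModule q.asIdeal.primeCompl X),
      ∀ {X Y : ModuleCat.{u} A} (φ : X →ₗ[A] Y) z,
        e Y (LD.hmap _ ((FD A (Loc q)).map (shMap φ i)) z) = Qmap q φ i (e X z) := by
  refine ⟨fun X => (LD.hEquiv _ (H4HTPtwise.locShIso q X i)).trans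
    (LinearEquiv.ofBijective _ (LD.bijective_lcInv (IsLocalRing.maximalIdeal (Loc q)) _ i)), fun {X Y} φ z => ?_⟩
  show LD.lcInv _ _ i (LD.hmap _ (H4HTPtwise.locShIso q Y i).hom _) =
    Qmap q φ i (LD.lcInv _ _ i (LD.hmap _ (H4HTPtwise.locShIso q X i).hom z))
  rw [← LD.hmap_comp, H4HTPtwise.locShIso_natural, LD.hmap_comp]
  exact H4HTPtwise.lcInv_natural _ i _ _

end Local

variable [IsNoetherianRing A] {ω : Dual.D A}

/-- The morphisms into the shifted dualizing complex are finite. -/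
theorem finite_hom (hω : Dual.IsDualizing A ω) (M : Type u) [AddCommGroup M] [Module A M] [Module.Finite A M]
    (i : ℕ) (d : ℤ) :
    Module.Finite A (((Dual.inD A M)⟦(i : ℤ)⟧) ⟶ (ω⟦d⟧)⟦(0 : ℤ)⟧) := by
  haveI := Dualizing.finite_ex_dualizing hω M (d - i)
  exact Module.Finite.equiv ((shiftSrc (Dual.inD A M) ω (i : ℤ) (d - i) d (by ring)).trans
    (addLin ((Dual.inD A M)⟦(i : ℤ)⟧) ω d 0 d (by ring)).symm)

/-- They vanish outside a range. -/
theorem exists_range_hom (hω : Dual.IsDualizing A ω) (i : ℕ) :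
    ∃ d₀ d₁ : ℤ, ∀ (M : Type u) [AddCommGroup M] [Module A M] (d : ℤ), d < d₀ ∨ d₁ < d →
      Subsingleton (((Dual.inD A M)⟦(i : ℤ)⟧) ⟶ (ω⟦d⟧)⟦(0 : ℤ)⟧) := by
  obtain ⟨E, a, b, hv, hE, ⟨e⟩⟩ := Dualizing.exists_injRep (K := ω) hω.finite_injective_dimension
  refine ⟨a + i, b + i, fun M _ _ d hd => ?_⟩
  have h : Subsingleton (Ex (Dual.inD A M) ω (d - i)) := by
    rcases hd with hd | hd
    · exact Ext.subsingleton_ex_of_LE (c := 0) (fun l hl => PCoh.subsingleton_HD_inD (ModuleCat.of A M) l (by omega))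
        hv hE e (by omega)
    · exact Ext.subsingleton_ex_of_GE (c := 0) (fun l hl => PCoh.subsingleton_HD_inD (ModuleCat.of A M) l (by omega))
        hv hE e (by omega)
  exact ((shiftSrc (Dual.inD A M) ω (i : ℤ) (d - i) d (by ring)).trans
    (addLin ((Dual.inD A M)⟦(i : ℤ)⟧) ω d 0 d (by ring)).symm).symm.injective.subsingleton

/-- Maps with the same dual kernel in every twist have the same image at every prime. -/
theorem range_Qmap_eq (hω : Dual.IsDualizing A ω) {M M₁ M₂ : Type u} [AddCommGroup M] [Module A M] [Module.Finite A M]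
    [AddCommGroup M₁] [Module A M₁] [Module.Finite A M₁] [AddCommGroup M₂] [Module A M₂] [Module.Finite A M₂]
    (φ₁ : M₁ →ₗ[A] M) (φ₂ : M₂ →ₗ[A] M) (i : ℕ) (q : PrimeSpectrum A)
    (hk : LinearMap.ker (pre (shMap φ₁ i) ((ω⟦deg hω q⟧)⟦(0 : ℤ)⟧)) =
      LinearMap.ker (pre (shMap φ₂ i) ((ω⟦deg hω q⟧)⟦(0 : ℤ)⟧))) :
    LinearMap.range (Qmap q φ₁ i) = LinearMap.range (Qmap q φ₂ i) := by
  haveI := IsLocalization.flat (Loc q) q.asIdeal.primeCompl
  haveI : IsNoetherianRing (Loc q) := IsLocalization.isNoetherianRing q.asIdeal.primeCompl (Loc q) ‹_›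
  let 𝔪 := IsLocalRing.maximalIdeal (Loc q)
  have hωR := Dualizing.isDualizing_shift (Dualizing.isDualizing_loc hω q) (deg hω q)
  have hnR := Dualizing.isNormalized_deg hω q
  obtain ⟨E, _, _, f, hf⟩ := H4Inj.exists_isInjectiveHull (R := Loc q) (IsLocalRing.ResidueField (Loc q))
  obtain ⟨τ⟩ := LD.nonempty_hull hωR hnR hf
  have good : ∀ (X : Type u) [AddCommGroup X] [Module A X] [Module.Finite A X],
      LD.Good 𝔪 τ.toLinearMap ((FD A (Loc q)).obj ((Dual.inD A X)⟦(i : ℤ)⟧)) := fun X _ _ _ => by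
    haveI : Module.Finite (Loc q) (LocalizedModule q.asIdeal.primeCompl X) :=
      Module.Finite.of_isLocalizedModule q.asIdeal.primeCompl (LocalizedModule.mkLinearMap q.asIdeal.primeCompl X)
    exact LD.Good.of_iso 𝔪 τ.toLinearMap (H4HTPtwise.locShIso q X i).symm
      (LD.goodAll_module hωR hnR hf τ (LocalizedModule q.asIdeal.primeCompl X) (i : ℤ))
  let W := (ω⟦deg hω q⟧)⟦(0 : ℤ)⟧
  let ι : (FD A (Loc q)).obj W ≅ ((loc ω q)⟦deg hω q⟧)⟦(0 : ℤ)⟧ :=
    ((FD A (Loc q)).commShiftIso (0 : ℤ)).app _ ≪≫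
      (shiftFunctor _ (0 : ℤ)).mapIso (((FD A (Loc q)).commShiftIso (deg hω q)).app ω)
  obtain ⟨c, c', hc⟩ := Dualizing.exists_bounds hω
  have hW : ∀ j : ℤ, j < c - deg hω q → Subsingleton (Dual.HD A W j) := fun j hj =>
    FlatBC.subsingleton_HD_shift (c := c - deg hω q) (W := ω⟦deg hω q⟧)
      (fun l hl => FlatBC.subsingleton_HD_shift (c := c) (fun k hk => hc k (Or.inl hk)) (deg hω q) l hl) 0 j
      (by omega)
  have hbij : ∀ (X : Type u) [AddCommGroup X] [Module A X] [Module.Finite A X],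
      FlatBC.Bij (Loc q) ((Dual.inD A X)⟦(i : ℤ)⟧) W := fun X _ _ _ =>
    (FlatBC.bij_module_of_bounded (W := W⟦(-(i : ℤ))⟧) (a := c - deg hω q + i)
      (fun j hj => FlatBC.subsingleton_HD_shift hW (-(i : ℤ)) j (by omega)) X).shift_src (i : ℤ)
  have hr := range_hmap_eq 𝔪 τ.toLinearMap hf.isInjective ((FD A (Loc q)).map (shMap φ₁ i))
    ((FD A (Loc q)).map (shMap φ₂ i)) (good M) (good M₁) (good M₂) fun φ => by
      have h := FD_comp_eq_zero_iff (B := Loc q) (shMap φ₁ i) (shMap φ₂ i) (hbij M) (hbij M₁) (hbij M₂) hk (φ ≫ ι.inv)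
      rw [← Category.assoc, ← Category.assoc] at h
      exact (Preadditive.IsIso.comp_right_eq_zero _ ι.inv).symm.trans
        (h.trans (Preadditive.IsIso.comp_right_eq_zero _ ι.inv))
  obtain ⟨e, he⟩ := exists_qEquiv q i
  have hconj : ∀ {X : Type u} [AddCommGroup X] [Module A X] (φ : X →ₗ[A] M),
      LinearMap.range (Qmap q φ i) =
        (LinearMap.range (LD.hmap 𝔪 ((FD A (Loc q)).map (shMap φ i)))).map (e (ModuleCat.of A M)).toLinearMap :=
    fun {X} _ _ φ => by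
      ext y
      constructor
      · rintro ⟨x, rfl⟩
        obtain ⟨z, rfl⟩ := (e (ModuleCat.of A X)).surjective x
        exact ⟨_, ⟨z, rfl⟩, he (X := ModuleCat.of A X) (Y := ModuleCat.of A M) φ z⟩
      · rintro ⟨_, ⟨z, rfl⟩, rfl⟩
        exact ⟨_, (he (X := ModuleCat.of A X) (Y := ModuleCat.of A M) φ z).symm⟩
  rw [hconj φ₁, hconj φ₂, hr]

variable (M : ℕ → Type u) [∀ n, AddCommGroup (M n)] [∀ n, Module A (M n)] [∀ n, Module.Finite A (M n)]
  (φ : ∀ k m : ℕ, m ≤ k → (M k →ₗ[A] M m))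

/-- One index stabilises the images at all primes. -/
theorem exists_uniform_range (hdc : ∃ ω : Dual.D A, Dual.IsDualizing A ω)
    (hφ : ∀ (k l m : ℕ) (h₁ : m ≤ l) (h₂ : l ≤ k), φ k m (h₁.trans h₂) = φ l m h₁ ∘ₗ φ k l h₂) (i : ℕ) :
    ∃ (m' : ℕ → ℕ) (hm' : ∀ m, m ≤ m' m), ∀ (q : PrimeSpectrum A) (m k : ℕ) (h : m ≤ k), m' m ≤ k →
      LinearMap.range (Qmap q (φ k m h) i) = LinearMap.range (Qmap q (φ (m' m) m (hm' m)) i) := by
  obtain ⟨ω, hω⟩ := hdc
  obtain ⟨d₀, d₁, hd⟩ := exists_range_hom hω i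
  have key : ∀ (m : ℕ) (d : ℤ), ∃ k₀ : ℕ, m ≤ k₀ ∧ ∀ (k k' : ℕ) (h : m ≤ k) (h' : m ≤ k'), k₀ ≤ k → k₀ ≤ k' →
      LinearMap.ker (pre (shMap (φ k m h) i) ((ω⟦d⟧)⟦(0 : ℤ)⟧)) =
        LinearMap.ker (pre (shMap (φ k' m h') i) ((ω⟦d⟧)⟦(0 : ℤ)⟧)) := by
    intro m d
    haveI := finite_hom hω (M m) i d
    let F : ℕ →o Submodule A (((Dual.inD A (M m))⟦(i : ℤ)⟧) ⟶ (ω⟦d⟧)⟦(0 : ℤ)⟧) :=
      ⟨fun j => LinearMap.ker (pre (shMap (φ (m + j) m (Nat.le_add_right m j)) i) _), fun a b hab x hx => by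
        have hc : shMap (φ (m + b) m (Nat.le_add_right m b)) i =
            shMap (φ (m + b) (m + a) (Nat.add_le_add_left hab m)) i ≫ shMap (φ (m + a) m (Nat.le_add_right m a)) i := by
          rw [hφ (m + b) (m + a) m (Nat.le_add_right m a) (Nat.add_le_add_left hab m)]
          simp only [shMap, ModuleCat.ofHom_comp, Functor.map_comp]
        show shMap (φ (m + b) m (Nat.le_add_right m b)) i ≫ x = 0
        rw [hc, Category.assoc, show shMap (φ (m + a) m (Nat.le_add_right m a)) i ≫ x = 0 from hx, comp_zero]⟩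
    obtain ⟨j₀, hj₀⟩ := monotone_stabilizes_iff_noetherian.2
      (isNoetherian_of_isNoetherianRing_of_finite A _) F
    refine ⟨m + j₀, Nat.le_add_right m j₀, fun k k' h h' hk hk' => ?_⟩
    obtain ⟨j, rfl⟩ := Nat.exists_eq_add_of_le h
    obtain ⟨j', rfl⟩ := Nat.exists_eq_add_of_le h'
    exact (hj₀ j (by omega)).symm.trans (hj₀ j' (by omega))
  choose k₀ hk₀ hstab using key
  refine ⟨fun m => max m ((Finset.Icc d₀ d₁).sup (k₀ m)), fun m => le_max_left _ _, fun q m k h hk => ?_⟩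
  refine range_Qmap_eq hω _ _ i q ?_
  by_cases hq : deg hω q ∈ Finset.Icc d₀ d₁
  · exact hstab m _ k _ h _ ((Finset.le_sup hq).trans ((le_max_right _ _).trans hk))
      ((Finset.le_sup hq).trans (le_max_right _ _))
  · rw [Finset.mem_Icc, not_and_or, not_le, not_le] at hq
    haveI := hd (M m) (deg hω q) hq
    exact Subsingleton.elim _ _

end Groth.Agent.H3CAlg.Boot
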