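import Groth.Agent.H3CAlg.Boot.Local
import Groth.Agent.H3CAlg.Boot.Uniform
import Groth.Agent.H26Boot.Basic

/-!
# Pointwise essential vanishing of `H^i(I^n M)`
-/

set_option autoImplicit false
set_option linter.style.haveILetI false
set_option linter.unusedSectionVars false

universe u

open CategoryTheory TensorProduct IsLocalRing
open Groth.Agent.H4DR
open Groth.Agent.H4DR.FlatBC (FD)

attribute [local instance] HasDerivedCategory.standard

namespace Groth.Agent.H3CAlg.Boot

variable {A : Type u} [CommRing A]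
variable {L M N : Type u} [AddCommGroup L] [Module A L] [AddCommGroup M] [Module A M] [AddCommGroup N] [Module A N]

section LocMap

variable (S : Submonoid A)

theorem locMap_comp (f : L →ₗ[A] M) (g : M →ₗ[A] N) :
    LocalizedModule.map S (g ∘ₗ f) = LocalizedModule.map S g ∘ₗ LocalizedModule.map S f :=
  LinearMap.ext fun x => by
    induction x using LocalizedModule.induction_on with
    | _ m s => simp only [LinearMap.comp_apply, LocalizedModule.map_mk]

theorem locMap_injective (f : L →ₗ[A] M) (hf : Function.Injective f) : Function.Injective (LocalizedModule.map S f) := by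
  intro x y
  induction x, y using LocalizedModule.induction_on₂ with
  | _ a b s t =>
    rw [LocalizedModule.map_mk, LocalizedModule.map_mk, LocalizedModule.mk_eq, LocalizedModule.mk_eq]
    rintro ⟨c, hc⟩
    refine ⟨c, hf ?_⟩
    simpa only [Submonoid.smul_def, map_smul] using hc

theorem locMap_surjective (f : L →ₗ[A] M) (hf : Function.Surjective f) :
    Function.Surjective (LocalizedModule.map S f) := by
  intro x
  induction x using LocalizedModule.induction_on with
  | _ m s =>
    obtain ⟨l, rfl⟩ := hf m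
    exact ⟨LocalizedModule.mk l s, LocalizedModule.map_mk _ _ _ _⟩

theorem locMap_exact (f : L →ₗ[A] M) (g : M →ₗ[A] N) (h : Function.Exact f g) :
    Function.Exact (LocalizedModule.map S f) (LocalizedModule.map S g) :=
  LocalizedModule.map_exact S f g h

end LocMap

theorem tmul_smul_base {R S V : Type u} [CommRing R] [Algebra A R] [CommRing S] [Algebra A S] [Algebra R S]
    [IsScalarTower A R S] [AddCommGroup V] [Module A V] [Module R V] [IsScalarTower A R V] (a : S) (b : A) (v : V) :
    a ⊗ₜ[R] (b • v) = algebraMap A S b • (a ⊗ₜ[R] v) := by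
  rw [← algebraMap_smul R b v, TensorProduct.tmul_smul, algebraMap_smul, algebraMap_smul]

/-- The inclusion between the powers. -/
noncomputable abbrev tY (I : Ideal A) (M : Type u) [AddCommGroup M] [Module A M] {n m : ℕ} (h : n ≤ m) :
    ↥(I ^ m • ⊤ : Submodule A M) →ₗ[A] ↥(I ^ n • ⊤ : Submodule A M) :=
  Submodule.inclusion (Submodule.smul_mono_left (Ideal.pow_le_pow_right h))

theorem tY_tY (I : Ideal A) {a b c : ℕ} (h : a ≤ b) (h' : b ≤ c) :
    tY I M h ∘ₗ tY I M h' = tY I M (h.trans h') := rfl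

theorem Qmap_comp (q : PrimeSpectrum A) (f : L →ₗ[A] M) (g : M →ₗ[A] N) (i : ℕ)
    (x : LocCoh.H (maximalIdeal (Localization.AtPrime q.asIdeal)) i (LocalizedModule q.asIdeal.primeCompl L)) :
    Qmap q (g ∘ₗ f) i x = Qmap q g i (Qmap q f i x) := by
  show H4LC.Hmap _ (LocalizedModule.map q.asIdeal.primeCompl (g ∘ₗ f)) i x = _
  rw [locMap_comp, H4LC.Hmap_comp]
  rfl

variable [IsNoetherianRing A] (I : Ideal A)

/-- The completed localisation. -/
abbrev Rhat (q : PrimeSpectrum A) :=
  AdicCompletion (I.map (algebraMap A (Localization.AtPrime q.asIdeal))) (Localization.AtPrime q.asIdeal)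

variable (M) [Module.Finite A M] (T : Set (PrimeSpectrum A)) (s d : ℕ)

/-- The two hypotheses. -/
structure Hyp : Prop where
  sub : T ⊆ PrimeSpectrum.zeroLocus (I : Set A)
  h4 : ∀ p r q : PrimeSpectrum A, p ≤ r → r ≤ q → ¬ I ≤ p.asIdeal → I ≤ r.asIdeal → r ∉ T → q ∈ T → (s : ℕ∞) ≤ LocCoh.depth (Localization.AtPrime p.asIdeal) (LocalizedModule p.asIdeal.primeCompl M) ∨ ((d + s : ℕ) : WithBot ℕ∞) < (LocCoh.depth (Localization.AtPrime p.asIdeal) (LocalizedModule p.asIdeal.primeCompl M) : WithBot ℕ∞) + Formal2.dimBetween A p.asIdeal q.asIdeal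
  h6 : ∀ q : PrimeSpectrum A, q ∈ T → ∀ p' : PrimeSpectrum (Rhat I q), ¬ (I.map (algebraMap A (Rhat I q))) ≤ p'.asIdeal → (∀ q' : PrimeSpectrum (Rhat I q), p' ≤ q' → (I.map (algebraMap A (Rhat I q))) ≤ q'.asIdeal → q'.asIdeal.IsMaximal) → (s : ℕ∞) < LocCoh.depth (Localization.AtPrime p'.asIdeal) (LocalizedModule p'.asIdeal.primeCompl (AdicCompletion (I.map (algebraMap A (Localization.AtPrime q.asIdeal))) (LocalizedModule q.asIdeal.primeCompl M)))

variable {I M}

theorem depth_compare (hdc : ∃ ω : Dual.D A, Dual.IsDualizing A ω) (q : PrimeSpectrum A) (hq : I ≤ q.asIdeal)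
    (p' : PrimeSpectrum (Rhat I q)) :
    ∃ p : PrimeSpectrum A, p ≤ q ∧
      (¬ I.map (algebraMap A (Rhat I q)) ≤ p'.asIdeal → ¬ I ≤ p.asIdeal) ∧
      LocCoh.depth (Localization.AtPrime p.asIdeal) (LocalizedModule p.asIdeal.primeCompl M) ≤
        LocCoh.depth (Localization.AtPrime p'.asIdeal) (LocalizedModule p'.asIdeal.primeCompl
          (AdicCompletion (I.map (algebraMap A (Localization.AtPrime q.asIdeal))) (LocalizedModule q.asIdeal.primeCompl M))) ∧
      ((LocCoh.depth (Localization.AtPrime p'.asIdeal) (LocalizedModule p'.asIdeal.primeCompl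
          (AdicCompletion (I.map (algebraMap A (Localization.AtPrime q.asIdeal))) (LocalizedModule q.asIdeal.primeCompl M))) : ℕ∞) :
            WithBot ℕ∞) + ringKrullDim (Rhat I q ⧸ p'.asIdeal) =
        ((LocCoh.depth (Localization.AtPrime p.asIdeal) (LocalizedModule p.asIdeal.primeCompl M) : ℕ∞) : WithBot ℕ∞) +
          Formal2.dimBetween A p.asIdeal q.asIdeal := by
  obtain ⟨ω, hω⟩ := hdc
  let R := Localization.AtPrime q.asIdeal
  let IR := I.map (algebraMap A R)
  let Rh := AdicCompletion IR R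
  haveI : IsNoetherianRing R := IsLocalization.isNoetherianRing q.asIdeal.primeCompl _ ‹_›
  haveI : IsNoetherianRing Rh := H24Adic.isNoetherianRing_adicCompletion IR
  haveI : IsLocalRing Rh := S2290.result A I (IsNoetherian.noetherian _) q.asIdeal hq
  haveI : Module.Finite R (LocalizedModule q.asIdeal.primeCompl M) :=
    Module.Finite.of_isLocalizedModule q.asIdeal.primeCompl (LocalizedModule.mkLinearMap q.asIdeal.primeCompl M)
  have hmapI : I.map (algebraMap A Rh) = IR.map (algebraMap R Rh) := by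
    rw [IsScalarTower.algebraMap_eq A R Rh, ← Ideal.map_map]
  have hIR : IR ≤ maximalIdeal R := by
    rw [← Localization.AtPrime.map_eq_maximalIdeal]; exact Ideal.map_mono hq
  have hmh : (maximalIdeal R).map (algebraMap R Rh) = maximalIdeal Rh :=
    IsLocalRing.eq_maximalIdeal (H26Boot.isMaximal_map_completion IR hIR)
  have hcomapm : PrimeSpectrum.comap (algebraMap R Rh) (closedPoint Rh) = closedPoint R := by
    refine PrimeSpectrum.ext (((maximalIdeal.isMaximal R).eq_of_le
      (Ideal.IsPrime.ne_top (PrimeSpectrum.comap (algebraMap R Rh) (closedPoint Rh)).2) ?_).symm)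
    exact Ideal.map_le_iff_le_comap.1 hmh.le
  have h14 := S1714.result R ⟨_, H4DR.Dualizing.isDualizing_loc hω q⟩ IR
    (LocalizedModule q.asIdeal.primeCompl M) p' (closedPoint Rh)
    (IsLocalRing.le_maximalIdeal p'.2.ne_top) ((Ideal.map_mono hIR).trans hmh.le)
  rw [hcomapm] at h14
  let P : PrimeSpectrum R := PrimeSpectrum.comap (algebraMap R Rh) p'
  let p : PrimeSpectrum A := PrimeSpectrum.comap (algebraMap A R) P
  have hpq : p ≤ q := (Ideal.comap_mono (IsLocalRing.le_maximalIdeal P.2.ne_top)).trans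
    (IsLocalization.AtPrime.comap_maximalIdeal R q.asIdeal).le
  have hPmap : p.asIdeal.map (algebraMap A R) = P.asIdeal :=
    IsLocalization.map_comap q.asIdeal.primeCompl R P.asIdeal
  refine ⟨p, hpq, fun hp' h => hp' (hmapI.le.trans (Ideal.map_le_iff_le_comap.2
    ((Ideal.map_mono h).trans hPmap.le))), ?_⟩
  haveI : P.asIdeal.LiesOver p.asIdeal := ⟨rfl⟩
  have hdep : LocCoh.depth (Localization.AtPrime P.asIdeal)
      (LocalizedModule P.asIdeal.primeCompl (LocalizedModule q.asIdeal.primeCompl M)) =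
      LocCoh.depth (Localization.AtPrime p.asIdeal) (LocalizedModule p.asIdeal.primeCompl M) := by
    rw [← H26Boot.depth_localization_eq M p.asIdeal P.asIdeal
      (by rw [hPmap, Ideal.minimalPrimes_eq_subsingleton_self]; rfl)]
    let S := Localization.AtPrime P.asIdeal
    exact H4Depth.depth_congr ((LocalizedModule.equivTensorProduct P.asIdeal.primeCompl _).trans
      ((TensorProduct.AlgebraTensorModule.congr (LinearEquiv.refl S S)
        (LocalizedModule.equivTensorProduct q.asIdeal.primeCompl M)).trans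
        (TensorProduct.AlgebraTensorModule.cancelBaseChange A R S S M)))
  have hdimq : Order.krullDim (Set.Icc P (closedPoint R)) = Formal2.dimBetween A p.asIdeal q.asIdeal := by
    rw [S8797Aux.krullDim_Icc_closedPoint]
    show _ = ringKrullDim (R ⧸ p.asIdeal.map (algebraMap A R))
    rw [hPmap]
  obtain ⟨hle, heq⟩ := h14
  change LocCoh.depth (Localization.AtPrime P.asIdeal)
    (LocalizedModule P.asIdeal.primeCompl (LocalizedModule q.asIdeal.primeCompl M)) ≤ _ at hle
  change _ = ((LocCoh.depth (Localization.AtPrime P.asIdeal) (LocalizedModule P.asIdeal.primeCompl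
    (LocalizedModule q.asIdeal.primeCompl M)) : ℕ∞) : WithBot ℕ∞) + Order.krullDim (Set.Icc P (closedPoint R)) at heq
  rw [hdep] at hle
  rw [hdep, hdimq, S8797Aux.krullDim_Icc_closedPoint] at heq
  exact ⟨hle, heq⟩

variable {T s d} (hdc : ∃ ω : Dual.D A, Dual.IsDualizing A ω) (hcd : LocCoh.CdLE A I d) (H : Hyp M I T s d)

/-- The kernel of the map to the completed localised quotient. -/
theorem ker_baseChange_mkQ (q : PrimeSpectrum A) (n : ℕ) :
    LinearMap.ker ((LocalizedModule.map q.asIdeal.primeCompl (I ^ n • ⊤ : Submodule A M).mkQ).baseChange (Rhat I q)) =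
      ((I.map (algebraMap A (Localization.AtPrime q.asIdeal))).map
          (algebraMap (Localization.AtPrime q.asIdeal) (Rhat I q))) ^ n • ⊤ := by
  set R := Localization.AtPrime q.asIdeal
  haveI : IsNoetherianRing R := IsLocalization.isNoetherianRing q.asIdeal.primeCompl _ ‹_›
  haveI : Module.Flat R (Rhat I q) := AdicCompletion.flat_of_isNoetherian _
  set J := ((I.map (algebraMap A R)).map (algebraMap R (Rhat I q))) ^ n with hJ
  have hJ' : J = (I ^ n).map (algebraMap A (Rhat I q)) := by
    rw [hJ, IsScalarTower.algebraMap_eq A R (Rhat I q), ← Ideal.map_map, Ideal.map_pow, Ideal.map_pow]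
  set Q := q.asIdeal.primeCompl
  refine le_antisymm (fun z hz => ?_) (Submodule.smul_le.2 fun r hr z _ => ?_)
  · obtain ⟨w, rfl⟩ := (Module.Flat.lTensor_exact (Rhat I q) (locMap_exact Q
      (I ^ n • ⊤ : Submodule A M).subtype (I ^ n • ⊤ : Submodule A M).mkQ (LinearMap.exact_subtype_mkQ _)) z).1 hz
    clear hz
    induction w using TensorProduct.induction_on with
    | zero => rw [map_zero]; exact zero_mem _
    | add x y hx hy => rw [map_add]; exact add_mem hx hy
    | tmul a x =>
      rw [LinearMap.lTensor_tmul]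
      induction x using LocalizedModule.induction_on with
      | _ y t =>
        rw [LocalizedModule.map_mk, Submodule.subtype_apply]
        refine Submodule.smul_induction_on y.2 (fun b hb x _ => ?_) (fun x x' hx hx' => ?_)
        · rw [← LocalizedModule.smul'_mk, tmul_smul_base]
          exact Submodule.smul_mem_smul (hJ' ▸ Ideal.mem_map_of_mem _ hb) Submodule.mem_top
        · have h2 : LocalizedModule.mk (x + x') t = LocalizedModule.mk x t + LocalizedModule.mk x' t := by
            rw [LocalizedModule.mk_add_mk]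
            refine LocalizedModule.mk_eq.2 ⟨1, ?_⟩
            simp only [one_smul, Submonoid.smul_def, Submonoid.coe_mul, smul_add, mul_smul]
          rw [h2, TensorProduct.tmul_add]
          exact add_mem hx hx'
  · rw [hJ'] at hr
    rw [LinearMap.mem_ker, map_smul]
    refine Module.mem_annihilator.1 ((?_ : (I ^ n).map (algebraMap A (Rhat I q)) ≤ Module.annihilator (Rhat I q)
      (Rhat I q ⊗[R] LocalizedModule Q (M ⧸ (I ^ n • ⊤ : Submodule A M)))) hr) _
    refine Ideal.map_le_iff_le_comap.2 fun b hb => ?_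
    rw [Ideal.mem_comap, Module.mem_annihilator]
    intro w
    induction w using TensorProduct.induction_on with
    | zero => exact smul_zero _
    | add x y hx hy => rw [smul_add, hx, hy, add_zero]
    | tmul a x =>
      rw [← tmul_smul_base]
      induction x using LocalizedModule.induction_on with
      | _ y t =>
        obtain ⟨y, rfl⟩ := Submodule.Quotient.mk_surjective _ y
        rw [LocalizedModule.smul'_mk, ← Submodule.Quotient.mk_smul,
          (Submodule.Quotient.mk_eq_zero _).2 (Submodule.smul_mem_smul hb Submodule.mem_top), LocalizedModule.zero_mk,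
          TensorProduct.tmul_zero]

/-- The completed localised quotient. -/
noncomputable def quotEquiv (q : PrimeSpectrum A) (n : ℕ) :
    ((Rhat I q ⊗[Localization.AtPrime q.asIdeal] LocalizedModule q.asIdeal.primeCompl M) ⧸
      (((I.map (algebraMap A (Localization.AtPrime q.asIdeal))).map
          (algebraMap (Localization.AtPrime q.asIdeal) (Rhat I q))) ^ n • ⊤ : Submodule (Rhat I q)
            (Rhat I q ⊗[Localization.AtPrime q.asIdeal] LocalizedModule q.asIdeal.primeCompl M))) ≃ₗ[Rhat I q]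
      Rhat I q ⊗[Localization.AtPrime q.asIdeal] LocalizedModule q.asIdeal.primeCompl (M ⧸ (I ^ n • ⊤ : Submodule A M)) :=
  (Submodule.quotEquivOfEq _ _ (ker_baseChange_mkQ (M := M) q n).symm).trans
    (LinearMap.quotKerEquivOfSurjective _ (LinearMap.lTensor_surjective (Rhat I q)
      (locMap_surjective q.asIdeal.primeCompl _ (Submodule.mkQ_surjective _))))

theorem quotEquiv_mkQ (q : PrimeSpectrum A) (n : ℕ) :
    (quotEquiv (I := I) (M := M) q n).toLinearMap ∘ₗ Submodule.mkQ _ =
      (LocalizedModule.map q.asIdeal.primeCompl (I ^ n • ⊤ : Submodule A M).mkQ).baseChange (Rhat I q) :=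
  LinearMap.ext fun _ => rfl

theorem quotEquiv_qt (q : PrimeSpectrum A) {n m : ℕ} (h : n ≤ m) :
    (quotEquiv (I := I) (M := M) q n).toLinearMap ∘ₗ qt _ _ h =
      (LocalizedModule.map q.asIdeal.primeCompl (qt I M h)).baseChange (Rhat I q) ∘ₗ
        (quotEquiv (I := I) (M := M) q m).toLinearMap := by
  refine Submodule.linearMap_qext _ ?_
  rw [LinearMap.comp_assoc, qt_mkQ, quotEquiv_mkQ, LinearMap.comp_assoc, quotEquiv_mkQ, ← LinearMap.baseChange_comp,
    ← locMap_comp, qt_mkQ]

set_option maxHeartbeats 1000000 in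
include hdc hcd H in
/-- The completed localisation satisfies the hypotheses at the closed point. -/
theorem qt_range_local {q : PrimeSpectrum A} (hq : q ∈ T) (i : ℕ) (hi : i ≤ s) :
    (∃ n : ℕ, Function.Injective (Qmap q (I ^ n • ⊤ : Submodule A M).mkQ i)) ∧
    ∀ m : ℕ, ∃ (k : ℕ) (h : m ≤ k), ∀ z, ∃ x,
      Qmap q (I ^ m • ⊤ : Submodule A M).mkQ i x = Qmap q (qt I M h) i z := by
  obtain ⟨ω, hω⟩ := hdc
  have hIq : I ≤ q.asIdeal := H.sub hq
  let R := Localization.AtPrime q.asIdeal
  let IR := I.map (algebraMap A R)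
  let Rh := Rhat I q
  let N := LocalizedModule q.asIdeal.primeCompl M
  haveI : IsNoetherianRing R := IsLocalization.isNoetherianRing q.asIdeal.primeCompl _ ‹_›
  have hfg : IR.FG := IsNoetherian.noetherian IR
  haveI : IsNoetherianRing Rh := H24Adic.isNoetherianRing_adicCompletion IR
  haveI : IsLocalRing Rh := S2290.result A I (IsNoetherian.noetherian _) q.asIdeal hIq
  haveI : Module.Flat R Rh := AdicCompletion.flat_of_isNoetherian IR
  haveI : Module.Finite R N :=
    Module.Finite.of_isLocalizedModule q.asIdeal.primeCompl (LocalizedModule.mkLinearMap q.asIdeal.primeCompl M)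
  have hIR : IR ≤ maximalIdeal R := by
    rw [← Localization.AtPrime.map_eq_maximalIdeal]; exact Ideal.map_mono hIq
  have hmh : (maximalIdeal R).map (algebraMap R Rh) = maximalIdeal Rh :=
    IsLocalRing.eq_maximalIdeal (H26Boot.isMaximal_map_completion IR hIR)
  let Ih := IR.map (algebraMap R Rh)
  haveI : IsAdicComplete Ih Rh := (IsAdicComplete.map_algebraMap_iff _ _).mpr (AdicCompletion.isAdicComplete hfg)
  have hmapI : I.map (algebraMap A Rh) = Ih := by
    show _ = (I.map (algebraMap A R)).map (algebraMap R Rh)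
    rw [IsScalarTower.algebraMap_eq A R Rh, ← Ideal.map_map]
  have hcl : H4LC.IsComplLike R Rh := ⟨inferInstance, hmh, fun n x => by
    obtain ⟨a, ha⟩ := H02CA.AdicSmooth.exists_sub_algebraMap_mem IR hfg n x
    refine ⟨a, Ideal.pow_right_mono ((Ideal.map_mono hIR).trans hmh.le) n ?_⟩
    rw [← Ideal.map_pow]
    exact ha⟩
  have hωh : ∃ ω : Dual.D Rh, Dual.IsDualizing Rh ω := by
    refine ⟨_, H4DR.Dualizing.isDualizing_maxUnramified (B := Rh) (H4DR.Dualizing.isDualizing_loc hω q)
      (H4DR.Dualizing.maxUnramified_of_surjective IR (fun z => ?_) (IsAdicComplete.le_jacobson_bot _))⟩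
    obtain ⟨x, rfl⟩ := Ideal.Quotient.mk_surjective z
    obtain ⟨a, ha⟩ := H24Adic.exists_sub_of_mem hfg 1 x
    rw [pow_one] at ha
    exact ⟨a, (Ideal.Quotient.eq.mpr ha).symm⟩
  have hdepth : ∀ p' : PrimeSpectrum Rh,
      LocCoh.depth (Localization.AtPrime p'.asIdeal) (LocalizedModule p'.asIdeal.primeCompl (AdicCompletion IR N)) =
        LocCoh.depth (Localization.AtPrime p'.asIdeal) (LocalizedModule p'.asIdeal.primeCompl (Rh ⊗[R] N)) := fun p' =>
    H4Depth.depth_congr (IsLocalizedModule.mapEquiv p'.asIdeal.primeCompl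
      (LocalizedModule.mkLinearMap p'.asIdeal.primeCompl _)
      (LocalizedModule.mkLinearMap p'.asIdeal.primeCompl _) (Localization.AtPrime p'.asIdeal)
      (AdicCompletion.ofTensorProductEquivOfFiniteNoetherian IR N)).symm
  obtain ⟨⟨n₀, hn₀⟩, hrange⟩ := local_ess Ih (Rh ⊗[R] N) hωh d (S8797Aux.cdLE_map (S8797Aux.cdLE_map hcd)) s
    (fun p' hp' => by
      obtain ⟨p, hpq, hpI, hle, heq⟩ := depth_compare (M := M) ⟨ω, hω⟩ q hIq p'
      replace hpI := hpI (hmapI ▸ hp')
      rw [← hdepth, heq]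
      by_cases hr : ∀ r : PrimeSpectrum A, p ≤ r → r ≤ q → I ≤ r.asIdeal → r ∈ T
      · exact Or.inl ((H26Boot.depth_gt I M T H.sub s H.h6 p q hpq hpI hq hr).le.trans hle)
      · push Not at hr
        obtain ⟨r, hpr, hrq, hIr, hrT⟩ := hr
        exact (H.h4 p r q hpr hrq hpI hIr hrT hq).imp (fun h => h.trans hle) id)
    (fun p' hp' hmax => by
      rw [← hdepth]
      exact H.h6 q hq p' (fun h => hp' (hmapI ▸ h)) fun q' hle hI => by
        rw [hmax q' hle (hmapI ▸ hI)]
        exact maximalIdeal.isMaximal Rh)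
    i hi
  obtain ⟨e, he⟩ := agree_lc_bc (A := R) Rh hcl i
  let e' : ∀ (X : Type u) [AddCommGroup X] [Module A X],
      LocCoh.H (maximalIdeal (Localization.AtPrime q.asIdeal)) i (LocalizedModule q.asIdeal.primeCompl X) ≃+
        LocCoh.H ((maximalIdeal R).map (algebraMap R Rh)) i (Rh ⊗[R] LocalizedModule q.asIdeal.primeCompl X) :=
    fun X _ _ => e (ModuleCat.of R (LocalizedModule q.asIdeal.primeCompl X))
  have he' : ∀ {X Y : Type u} [AddCommGroup X] [Module A X] [AddCommGroup Y] [Module A Y] (φ : X →ₗ[A] Y) z,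
      e' Y (Qmap q φ i z) =
        H4LC.Hmap ((maximalIdeal R).map (algebraMap R Rh))
          ((LocalizedModule.map q.asIdeal.primeCompl φ).baseChange Rh) i
          (e' X z) :=
    fun {X Y} _ _ _ _ φ z => he (M := ModuleCat.of R (LocalizedModule q.asIdeal.primeCompl X))
      (N := ModuleCat.of R (LocalizedModule q.asIdeal.primeCompl Y))
      (LocalizedModule.map q.asIdeal.primeCompl φ) z
  rw [← hmh] at hn₀ hrange
  have hiso : ∀ n, Function.Bijective
      (H4LC.Hmap ((maximalIdeal R).map (algebraMap R Rh)) (quotEquiv (I := I) (M := M) q n).toLinearMap i) := fun n =>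
    H4LC.Hmap_bijective_of_bijective _ _ (quotEquiv (I := I) (M := M) q n).bijective i
  refine ⟨⟨n₀, (injective_iff_map_eq_zero _).2 fun x hx => ?_⟩, fun m => ?_⟩
  · have h1 := he' (I ^ n₀ • ⊤ : Submodule A M).mkQ x
    rw [hx, map_zero, ← quotEquiv_mkQ, H4LC.Hmap_comp, LinearMap.comp_apply] at h1
    exact (map_eq_zero_iff (e' M) (e' M).injective).1
      ((map_eq_zero_iff _ hn₀).1 ((map_eq_zero_iff _ (hiso n₀).1).1 h1.symm))
  · obtain ⟨k, h, hk⟩ := hrange m
    refine ⟨k, h, fun z => ?_⟩
    obtain ⟨w, hw⟩ := (hiso k).2 (e' _ z)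
    obtain ⟨v, hv⟩ := hk ⟨w, rfl⟩
    obtain ⟨x, rfl⟩ := (e' M).surjective v
    refine ⟨x, (e' _).injective ?_⟩
    rw [he', he', ← quotEquiv_mkQ, H4LC.Hmap_comp, LinearMap.comp_apply, hv, ← hw, ← LinearMap.comp_apply,
      ← H4LC.Hmap_comp, quotEquiv_qt, H4LC.Hmap_comp, LinearMap.comp_apply]

include hdc hcd H in
/-- Pointwise essential vanishing. -/
theorem pointwise {q : PrimeSpectrum A} (hq : q ∈ T) :
    (∀ i : ℕ, i ≤ s → ∀ m : ℕ, ∃ (k : ℕ) (h : m ≤ k), ∀ x, Qmap q (tY I M h) i x = 0) ∧
    ∀ m : ℕ, ∃ (k : ℕ) (h : m ≤ k), ∀ x, Qmap q (I ^ k • ⊤ : Submodule A M).subtype (s + 1) x = 0 →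
      Qmap q (tY I M h) (s + 1) x = 0 := by
  let R := Localization.AtPrime q.asIdeal
  let Q := q.asIdeal.primeCompl
  have hf : ∀ n, Function.Injective (LocalizedModule.map Q (I ^ n • ⊤ : Submodule A M).subtype) := fun n =>
    locMap_injective Q _ (Submodule.injective_subtype _)
  have hg : ∀ n, Function.Surjective (LocalizedModule.map Q (I ^ n • ⊤ : Submodule A M).mkQ) := fun n =>
    locMap_surjective Q _ (Submodule.mkQ_surjective _)
  have hfg : ∀ n, Function.Exact (LocalizedModule.map Q (I ^ n • ⊤ : Submodule A M).subtype)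
      (LocalizedModule.map Q (I ^ n • ⊤ : Submodule A M).mkQ) := fun n =>
    locMap_exact Q _ _ (LinearMap.exact_subtype_mkQ _)
  have key : ∀ j : ℕ, j ≤ s → ∀ m : ℕ, ∃ k₁ : ℕ, ∀ (k : ℕ) (h : m ≤ k), k₁ ≤ k → ∀ x,
      Qmap q (I ^ k • ⊤ : Submodule A M).subtype (j + 1) x = 0 → Qmap q (tY I M h) (j + 1) x = 0 := by
    intro j hj m
    obtain ⟨k₁, h₁, hk₁⟩ := (qt_range_local hdc hcd H hq j hj).2 m
    refine ⟨k₁, fun k h hk x hx => ?_⟩
    obtain ⟨z, rfl⟩ := (exactL₁ (hf k) (hg k) (hfg k) (maximalIdeal R) j x).1 hx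
    show H4LC.Hmap _ (LocalizedModule.map Q (tY I M h)) (j + 1) _ = 0
    rw [← δL_natural (hf k) (hg k) (hfg k) (hf m) (hg m) (hfg m) (maximalIdeal R)
      (b := LinearMap.id) (c := LocalizedModule.map Q (qt I M h))
      (by rw [← locMap_comp, LinearMap.id_comp]; rfl)
      (by rw [← locMap_comp, qt_mkQ, LinearMap.comp_id])]
    obtain ⟨v, hv⟩ := hk₁ (Qmap q (qt I M hk) j z)
    rw [← Qmap_comp, qt_qt] at hv
    exact (exactL₃ (hf m) (hg m) (hfg m) (maximalIdeal R) j _).2 ⟨v, hv⟩
  refine ⟨fun i hi m => ?_, fun m => ?_⟩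
  · obtain ⟨n₀, hn₀⟩ := (qt_range_local hdc hcd H hq i hi).1
    have hinto : ∀ (k : ℕ), n₀ ≤ k → ∀ x, Qmap q (I ^ k • ⊤ : Submodule A M).subtype i x = 0 := fun k hk x => by
      refine (map_eq_zero_iff _ hn₀).1 ?_
      rw [← qt_mkQ I M hk, Qmap_comp, show Qmap q (I ^ k • ⊤ : Submodule A M).mkQ i
        (Qmap q (I ^ k • ⊤ : Submodule A M).subtype i x) = 0 from
          (H4LC.exactH₂ (maximalIdeal R) (hf k) (hg k) (hfg k) i).apply_apply_eq_zero x, map_zero]
    cases i with
    | zero =>
      refine ⟨max n₀ m, le_max_right _ _, fun x => ?_⟩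
      refine H4LC.Hmap_zero_injective (maximalIdeal R) (hf m) (hg m) (hfg m) ?_
      rw [map_zero]
      refine (Qmap_comp q _ _ 0 x).symm.trans ?_
      exact hinto _ (le_max_left _ _) x
    | succ j =>
      obtain ⟨k₁, hk₁⟩ := key j (by omega) m
      exact ⟨max (max n₀ m) k₁, le_trans (le_max_right _ _) (le_max_left _ _), fun x =>
        hk₁ _ _ (le_max_right _ _) x (hinto _ (le_trans (le_max_left _ _) (le_max_left _ _)) x)⟩
  · obtain ⟨k₁, hk₁⟩ := key s le_rfl m
    exact ⟨max m k₁, le_max_left _ _, hk₁ _ _ (le_max_right _ _)⟩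

end Groth.Agent.H3CAlg.Boot
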