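import Groth.Agent.H3CAlg.Boot.Pointwise
import Groth.Agent.H1CAlg.DepthHom

/-!
# The hypotheses pass to modules which are retracts of powers outside `V(I)`
-/

set_option autoImplicit false
set_option linter.style.haveILetI false
set_option linter.unusedSectionVars false

universe u

open CategoryTheory TensorProduct IsLocalRing

attribute [local instance] HasDerivedCategory.standard

namespace Groth.Agent.H3CAlg.Boot

section Local

variable {S : Type u} [CommRing S] [IsLocalRing S] [IsNoetherianRing S]

theorem depth_le_of_retract {V W : Type u} [AddCommGroup V] [Module S V] [Module.Finite S V] [AddCommGroup W]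
    [Module S W] [Module.Finite S W] {r : ℕ} (θ : W →ₗ[S] (Fin r → V)) (σ : (Fin r → V) →ₗ[S] W)
    (h : σ ∘ₗ θ = LinearMap.id) : LocCoh.depth S V ≤ LocCoh.depth S W := by
  refine (H1CAlg.idealDepth_le_idealDepth_pi (maximalIdeal S) r).trans ?_
  refine ENat.forall_natCast_le_iff_le.1 fun n hn => (H4LC.le_idealDepth_iff_H _ _).2 fun i hi => ?_
  haveI := (H4LC.le_idealDepth_iff_H _ _).1 hn i hi
  exact (Function.LeftInverse.injective (g := H4LC.Hmap (maximalIdeal S) σ i)
    (f := H4LC.Hmap (maximalIdeal S) θ i) fun x => by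
      rw [← LinearMap.comp_apply, ← H4LC.Hmap_comp, h, H4LC.Hmap_id]; rfl).subsingleton

variable {A : Type u} [CommRing A] [Algebra A S]
  {M N : Type u} [AddCommGroup M] [Module A M] [Module.Finite A M] [AddCommGroup N] [Module A N] [Module.Finite A N]

theorem depth_tensor_le {r : ℕ} (θ : N →ₗ[A] (Fin r → M)) (σ : (Fin r → M) →ₗ[A] N) (c : A)
    (h : σ ∘ₗ θ = c • LinearMap.id) (hc : IsUnit (algebraMap A S c)) :
    LocCoh.depth S (S ⊗[A] M) ≤ LocCoh.depth S (S ⊗[A] N) := by
  obtain ⟨u, hu⟩ := hc
  let e := TensorProduct.piRight A S S (fun _ : Fin r => M)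
  refine depth_le_of_retract (e.toLinearMap ∘ₗ θ.baseChange S)
    ((↑u⁻¹ : S) • (σ.baseChange S ∘ₗ e.symm.toLinearMap)) (LinearMap.ext fun x => ?_)
  show (↑u⁻¹ : S) • σ.baseChange S (e.symm (e (θ.baseChange S x))) = x
  rw [LinearEquiv.symm_apply_apply, ← LinearMap.comp_apply, ← LinearMap.baseChange_comp, h]
  rw [LinearMap.baseChange_smul, LinearMap.baseChange_id, LinearMap.smul_apply, LinearMap.id_apply,
    ← algebraMap_smul S c x, ← hu, smul_smul, Units.inv_mul, one_smul]

end Local

variable {A : Type u} [CommRing A] [IsNoetherianRing A] (I : Ideal A) (q : PrimeSpectrum A)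

theorem depth_hat_eq (X : Type u) [AddCommGroup X] [Module A X] [Module.Finite A X]
    (p' : PrimeSpectrum (Rhat I q)) :
    LocCoh.depth (Localization.AtPrime p'.asIdeal) (LocalizedModule p'.asIdeal.primeCompl
        (AdicCompletion (I.map (algebraMap A (Localization.AtPrime q.asIdeal))) (LocalizedModule q.asIdeal.primeCompl X))) =
      LocCoh.depth (Localization.AtPrime p'.asIdeal) (Localization.AtPrime p'.asIdeal ⊗[A] X) := by
  let R := Localization.AtPrime q.asIdeal
  let IR := I.map (algebraMap A R)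
  let S := Localization.AtPrime p'.asIdeal
  haveI : IsNoetherianRing R := IsLocalization.isNoetherianRing q.asIdeal.primeCompl _ ‹_›
  haveI : Module.Finite R (LocalizedModule q.asIdeal.primeCompl X) :=
    Module.Finite.of_isLocalizedModule q.asIdeal.primeCompl (LocalizedModule.mkLinearMap q.asIdeal.primeCompl X)
  let e1 : LocalizedModule p'.asIdeal.primeCompl (AdicCompletion IR (LocalizedModule q.asIdeal.primeCompl X)) ≃ₗ[S]
      S ⊗[Rhat I q] (Rhat I q ⊗[R] LocalizedModule q.asIdeal.primeCompl X) :=
    (LocalizedModule.equivTensorProduct p'.asIdeal.primeCompl _).trans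
      (TensorProduct.AlgebraTensorModule.congr (LinearEquiv.refl S S)
        (AdicCompletion.ofTensorProductEquivOfFiniteNoetherian IR (LocalizedModule q.asIdeal.primeCompl X)).symm)
  let e2 : S ⊗[Rhat I q] (Rhat I q ⊗[R] LocalizedModule q.asIdeal.primeCompl X) ≃ₗ[S] S ⊗[A] X :=
    (TensorProduct.AlgebraTensorModule.cancelBaseChange R (Rhat I q) S S _).trans
      ((TensorProduct.AlgebraTensorModule.congr (LinearEquiv.refl S S)
        (LocalizedModule.equivTensorProduct q.asIdeal.primeCompl X)).trans
        (TensorProduct.AlgebraTensorModule.cancelBaseChange A R S S X))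
  exact H4Depth.depth_congr (e1.trans e2)

variable {I} {T : Set (PrimeSpectrum A)} {s d : ℕ}
variable {M N : Type u} [AddCommGroup M] [Module A M] [Module.Finite A M] [AddCommGroup N] [Module A N] [Module.Finite A N]

/-- The hypotheses only depend on `M` outside `V(I)`, up to retracts of powers. -/
theorem Hyp.of_retract (H : Hyp M I T s d) (r : ℕ) (θ : N →ₗ[A] (Fin r → M))
    (hret : ∀ p : PrimeSpectrum A, ¬ I ≤ p.asIdeal →
      ∃ c ∉ p.asIdeal, ∃ σ : (Fin r → M) →ₗ[A] N, σ ∘ₗ θ = c • LinearMap.id) :
    Hyp N I T s d where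
  sub := H.sub
  h4 p ρ q h₁ h₂ hp hI hT hq := by
    obtain ⟨c, hc, σ, hσ⟩ := hret p hp
    haveI : IsNoetherianRing (Localization.AtPrime p.asIdeal) :=
      IsLocalization.isNoetherianRing p.asIdeal.primeCompl _ ‹_›
    have h : LocCoh.depth (Localization.AtPrime p.asIdeal) (LocalizedModule p.asIdeal.primeCompl M) ≤
        LocCoh.depth (Localization.AtPrime p.asIdeal) (LocalizedModule p.asIdeal.primeCompl N) := by
      rw [H4Depth.depth_congr (LocalizedModule.equivTensorProduct p.asIdeal.primeCompl M),
        H4Depth.depth_congr (LocalizedModule.equivTensorProduct p.asIdeal.primeCompl N)]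
      exact depth_tensor_le θ σ c hσ (IsLocalization.map_units _ (⟨c, hc⟩ : p.asIdeal.primeCompl))
    exact (H.h4 p ρ q h₁ h₂ hp hI hT hq).imp (fun h' => h'.trans h)
      (fun h' => h'.trans_le (add_le_add (WithBot.coe_le_coe.2 h) le_rfl))
  h6 q hq p' hp' hmax := by
    let p : PrimeSpectrum A := PrimeSpectrum.comap (algebraMap A (Rhat I q)) p'
    obtain ⟨c, hc, σ, hσ⟩ := hret p fun h => hp' (Ideal.map_le_iff_le_comap.2 h)
    haveI : IsNoetherianRing (Rhat I q) := by
      haveI : IsNoetherianRing (Localization.AtPrime q.asIdeal) :=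
        IsLocalization.isNoetherianRing q.asIdeal.primeCompl _ ‹_›
      exact H24Adic.isNoetherianRing_adicCompletion _
    haveI : IsNoetherianRing (Localization.AtPrime p'.asIdeal) :=
      IsLocalization.isNoetherianRing p'.asIdeal.primeCompl _ ‹_›
    have h := H.h6 q hq p' hp' hmax
    rw [depth_hat_eq] at h ⊢
    refine h.trans_le (depth_tensor_le θ σ c hσ ?_)
    rw [IsScalarTower.algebraMap_apply A (Rhat I q) (Localization.AtPrime p'.asIdeal)]
    exact IsLocalization.map_units _ (⟨algebraMap A (Rhat I q) c, hc⟩ : p'.asIdeal.primeCompl)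

end Groth.Agent.H3CAlg.Boot
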